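import Cfsg.Agent.HJS.Tab

/-! Facts about the Sylow 2-subgroup `TG` of `J2`, by kernel evaluation (helper12). -/

set_option autoImplicit false
set_option maxRecDepth 100000

namespace Cfsg.Agent.HJS

open Subgroup Equiv

/-- central involution -/
abbrev tz : TG := k 1
/-- `⟨z, s⟩` is the normal four-group -/
abbrev ts : TG := k 2
/-- involution of `Q` outside `TC` -/
abbrev tt : TG := k 16
/-- outer involution -/
abbrev tx : TG := k 32
/-- outer involution -/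
abbrev ty : TG := k 64
/-- the five singular points -/
def sv : Fin 5 → TG := ![k 20, k 24, k 30, k 16, k 2]

instance instDecCommTG (a b : TG) : Decidable (Commute a b) := inferInstanceAs (Decidable (a * b = b * a))

/-- subgroups given by a predicate on codes -/
def sub (P : ℕ → Bool) (h1 : P 0 = true) (h : ∀ a b : TG, P a.1 = true → P b.1 = true → P (a * b⁻¹).1 = true) :
    Subgroup TG where
  carrier := {a | P a.1 = true}
  one_mem' := h1
  inv_mem' := fun {a} ha => by simpa using h 1 a h1 ha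
  mul_mem' := fun {a b} ha hb => by simpa using h a b⁻¹ ha (by simpa using h 1 b h1 hb)

/-- `V = ⟨z, s⟩` -/
def TV : Subgroup TG := sub (fun c => Nat.blt c 4) rfl (by decide +kernel)
/-- `Q = 2^{1+4}` -/
def TQ : Subgroup TG := sub (fun c => Nat.blt c 32) rfl (by decide +kernel)
/-- `TC = C(s)` -/
def TC : Subgroup TG := sub (fun c => Nat.beq (Nat.land c 16) 0) rfl (by decide +kernel)
/-- `A = E16` -/
def TA : Subgroup TG := sub (fun c => Nat.beq (Nat.land c 28) 0) rfl (by decide +kernel)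

instance instDecV (a : TG) : Decidable (a ∈ TV) := inferInstanceAs (Decidable (Nat.blt a.1 4 = true))
instance instDecQ (a : TG) : Decidable (a ∈ TQ) := inferInstanceAs (Decidable (Nat.blt a.1 32 = true))
instance instDecC (a : TG) : Decidable (a ∈ TC) := inferInstanceAs (Decidable (Nat.beq (Nat.land a.1 16) 0 = true))
instance instDecA (a : TG) : Decidable (a ∈ TA) := inferInstanceAs (Decidable (Nat.beq (Nat.land a.1 28) 0 = true))

theorem card_sub (H : Subgroup TG) [DecidablePred (· ∈ H)] :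
    Nat.card H = (Finset.univ.filter (· ∈ H)).card := by
  rw [Nat.card_eq_fintype_card, Fintype.card_subtype]

theorem card_V : Nat.card TV = 4 := (card_sub _).trans (by decide +kernel)
theorem card_Q : Nat.card TQ = 32 := (card_sub _).trans (by decide +kernel)
theorem card_TC : Nat.card TC = 64 := (card_sub _).trans (by decide +kernel)
theorem card_A : Nat.card TA = 16 := (card_sub _).trans (by decide +kernel)

/-- the centralizer has rank at least 3 -/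
def R3 (b : TG) : Prop := ∃ c, (Commute c b ∧ c * c = 1 ∧ c ≠ 1 ∧ c ≠ b) ∧
  ∃ d, (Commute d b ∧ d * d = 1 ∧ d ≠ 1 ∧ d ≠ b) ∧ c ≠ d ∧ c ≠ d * b
/-- the centralizer has an element of order at least 4 -/
def O4 (b : TG) : Prop := ∃ c, Commute c b ∧ c * c ≠ 1
/-- the centralizer has an element of order 8 -/
def O8 (b : TG) : Prop := ∃ c, Commute c b ∧ c * c * (c * c) ≠ 1

instance instDecR3 (b : TG) : Decidable (R3 b) := by unfold R3; infer_instance
instance instDecO4 (b : TG) : Decidable (O4 b) := by unfold O4; infer_instance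
instance instDecO8 (b : TG) : Decidable (O8 b) := by unfold O8; infer_instance

theorem zz : tz * tz = 1 := by decide +kernel
theorem z1 : tz ≠ 1 := by decide +kernel
theorem zc : ∀ a, Commute a tz := by decide +kernel
theorem cen : ∀ a : TG, (∀ b, Commute a b) → a = 1 ∨ a = tz := by decide +kernel
theorem memV : ∀ a : TG, a ∈ TV ↔ a = 1 ∨ a = tz ∨ a = ts ∨ a = ts * tz := by decide +kernel
theorem memV' : ∀ e ∈ TV, e ≠ 1 → e ≠ tz → ∀ a ∈ TV, a = 1 ∨ a = tz ∨ a = e ∨ a = e * tz := by decide +kernel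
theorem V_le_A : TV ≤ TA := (by decide +kernel : ∀ a ∈ TV, a ∈ TA)
theorem V_le_Q : TV ≤ TQ := (by decide +kernel : ∀ a ∈ TV, a ∈ TQ)
theorem V_conj : ∀ g : TG, ∀ a ∈ TV, g * a * g⁻¹ ∈ TV := by decide +kernel
theorem Q_conj : ∀ g : TG, ∀ a ∈ TQ, g * a * g⁻¹ ∈ TQ := by decide +kernel
theorem A_comm : ∀ a ∈ TA, ∀ b ∈ TA, Commute a b := by decide +kernel
theorem A_sq : ∀ a ∈ TA, a * a = 1 := by decide +kernel
theorem A_Q : ∀ a ∈ TA, a ∈ TQ → a ∈ TV := by decide +kernel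
theorem A_cent : ∀ a ∈ TA, a ∉ TV → ∀ b, Commute b a → b ∈ TA := by decide +kernel
theorem TC_A : ∀ b ∈ TC, ∀ c ∈ TA, b * c * b⁻¹ ∈ TA ∧ b * c * b⁻¹ * c⁻¹ ∈ TV := by decide +kernel
theorem R3_out : ∀ w : TG, w * w = 1 → w ∈ TC → w ≠ 1 → R3 w := by decide +kernel
theorem out_TC : ∀ w : TG, w * w = 1 → w ∉ TQ → w ∈ TC := by decide +kernel
theorem O4_Q : ∀ q ∈ TQ, O4 q := by decide +kernel
theorem O8_z : O8 tz := by decide +kernel
theorem O8_eq : ∀ e : TG, e * e = 1 → O8 e → e = 1 ∨ e = tz := by decide +kernel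
theorem R3_O4 : ∀ e : TG, e * e = 1 → O4 e → R3 e → e ∈ TV := by decide +kernel
theorem sq_V : ∀ r : TG, r * r * (r * r) = 1 → r * r ∈ TV := by decide +kernel
theorem out_sq : ∀ c : TG, c ∉ TQ → c * c = 1 ∨ c * c = tz → c * c = 1 := by decide +kernel
theorem coset_inv : ∀ h : TG, h ∉ TQ → ∃ q ∈ TQ, h * q * (h * q) = 1 := by decide +kernel
theorem to_A : ∀ w : TG, w * w = 1 → w ∉ TQ → ∃ g : TG, g * w * g⁻¹ ∈ TA := by decide +kernel
theorem to_A' : ∀ e ∈ TV, e ≠ 1 → e ≠ tz → ∀ w : TG, w * w = 1 → Commute w e → w ∉ TV →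
    ∃ g : TG, g * w * g⁻¹ ∈ TA := by decide +kernel
theorem norm_E : ∀ w : TG, w * w = 1 → (∀ g, Commute w (g * w * g⁻¹)) → w ∈ TV := by decide +kernel
theorem exists_b : ∀ u ∈ TA, ∀ e ∈ TV, e ≠ 1 → e ≠ tz → ∃ b ∈ TC, (b * u * b⁻¹ = u ∨ b * u * b⁻¹ = u * tz) ∧
    ∃ c ∈ TA, b * c * b⁻¹ * c⁻¹ = e ∨ b * c * b⁻¹ * c⁻¹ = e * tz := by decide +kernel
theorem xt8 : tx * tx = 1 ∧ tt * tt = 1 ∧ tx * tt * (tx * tt) * (tx * tt * (tx * tt)) ≠ 1 := by decide +kernel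
theorem t_facts : tt ∈ TQ ∧ tt ≠ 1 ∧ tt ≠ tz ∧ tt * ts * tt⁻¹ = ts * tz ∧ (∃ r, Commute r tt ∧ r * r = tz) ∧
    (∃ r, Commute r ts ∧ r * r = tz) ∧ ts ∈ TV ∧ ts ≠ 1 ∧ ts ≠ tz ∧ ts * ts = 1 ∧ tz ∈ TV := by decide +kernel
theorem Q_cen : ∀ x : TG, (∀ y ∈ TQ, Commute x y) → x = 1 ∨ x = tz := by decide +kernel
theorem Q_comm : ∀ x ∈ TQ, ∀ y ∈ TQ, x * y * x⁻¹ = y ∨ x * y * x⁻¹ = y * tz := by decide +kernel
theorem Q_sq : ∀ x ∈ TQ, x * x = 1 ∨ x * x = tz := by decide +kernel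
theorem Q_nab : ∃ x ∈ TQ, ∃ y ∈ TQ, ¬ Commute x y := by decide +kernel
theorem sv_facts : ∀ i, sv i ∈ TQ ∧ sv i * sv i = 1 ∧ sv i ≠ 1 ∧ sv i ≠ tz := by decide +kernel
theorem sv_uniq : ∀ i j, sv i = sv j ∨ sv i = sv j * tz → i = j := by decide +kernel
theorem sv_inv : ∀ q ∈ TQ, q * q = 1 → q ≠ 1 → q ≠ tz → ∃ i, q = sv i ∨ q = sv i * tz := by decide +kernel
theorem sv_gen : ∀ q ∈ TQ, ∃ a ∈ [1, sv 0], ∃ b ∈ [1, sv 1], ∃ c ∈ [1, sv 2], ∃ d ∈ [1, sv 3], ∃ e ∈ [1, tz],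
    q = a * b * c * d * e := by decide +kernel
theorem sv_fix : ∀ a ∈ [sv 0, sv 0 * tz], ∀ b ∈ [sv 1, sv 1 * tz], ∀ c ∈ [sv 2, sv 2 * tz], ∀ d ∈ [sv 3, sv 3 * tz],
    ∃ q ∈ TQ, q * sv 0 * q⁻¹ = a ∧ q * sv 1 * q⁻¹ = b ∧ q * sv 2 * q⁻¹ = c ∧ q * sv 3 * q⁻¹ = d := by decide +kernel

/-- action of `x` -/
def px : Perm (Fin 5) := ⟨![3, 2, 1, 0, 4], ![3, 2, 1, 0, 4], by decide, by decide⟩
/-- action of `y` -/
def py : Perm (Fin 5) := ⟨![2, 3, 0, 1, 4], ![2, 3, 0, 1, 4], by decide, by decide⟩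

theorem sv_x : ∀ i, tx * sv i * tx⁻¹ = sv (px i) ∨ tx * sv i * tx⁻¹ = sv (px i) * tz := by decide +kernel
theorem sv_y : ∀ i, ty * sv i * ty⁻¹ = sv (py i) ∨ ty * sv i * ty⁻¹ = sv (py i) * tz := by decide +kernel

theorem s5_odd (D : Subgroup (Perm (Fin 5))) (hx : ∀ σ ∈ D, px * σ * px⁻¹ ∈ D) (hy : ∀ σ ∈ D, py * σ * py⁻¹ ∈ D)
    (h2 : ∀ σ ∈ D, σ * σ = 1 → σ = 1) {σ : Perm (Fin 5)} (hσ : σ ∈ D) : σ = 1 := by
  have key : ∀ a : Perm (Fin 5), a ≠ 1 → ∀ b ∈ [px * a * px⁻¹], ∀ c ∈ [py * a * py⁻¹],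
      ∃ w ∈ [a * a * b * (a * a * b) * (a * a * b), a * a * b * (a * a * b), a * a * b * a * b, a * a * c * a * c,
        a * a * c], w * w = 1 ∧ w ≠ 1 := by decide +kernel
  by_contra h
  obtain ⟨w, hw, h3, h4⟩ := key σ h _ (List.mem_singleton_self _) _ (List.mem_singleton_self _)
  refine h4 (h2 w ?_ h3)
  have hb := hx σ hσ
  have hc := hy σ hσ
  simp only [List.mem_cons, List.not_mem_nil, or_false] at hw
  rcases hw with rfl | rfl | rfl | rfl | rfl <;> apply_rules [mul_mem]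

theorem s5_15 (R : Subgroup (Perm (Fin 5))) (hx : px ∈ R) (hy : py ∈ R) {σ : Perm (Fin 5)} (hσ : σ ∈ R)
    (h : σ 3 = 4) : 15 ∣ Nat.card R := by
  have k3 : ∀ a : Perm (Fin 5), a 3 = 4 → ∃ w ∈ [a * a * px * a * py * (a * a * px * a * py),
      a * a * px * a * px * py * (a * a * px * a * px * py), a * px * py * a * py], w ^ 3 = 1 ∧ w ≠ 1 := by
    decide +kernel
  have k5 : ∀ a : Perm (Fin 5), a 3 = 4 → ∃ w ∈ [a * a * a * px * a * py, a * a * px, a * px * py * a * py, a],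
      w ^ 5 = 1 ∧ w ≠ 1 := by decide +kernel
  have := Nat.fact_prime_three
  have : Fact (Nat.Prime 5) := ⟨by norm_num⟩
  refine Nat.Coprime.mul_dvd_of_dvd_of_dvd (m := 3) (n := 5) (by norm_num) ?_ ?_
  · obtain ⟨w, hw, h3, h4⟩ := k3 σ h
    refine (orderOf_eq_prime h3 h4).symm.dvd.trans (R.orderOf_dvd_natCard ?_)
    simp only [List.mem_cons, List.not_mem_nil, or_false] at hw
    rcases hw with rfl | rfl | rfl <;> apply_rules [mul_mem]
  · obtain ⟨w, hw, h3, h4⟩ := k5 σ h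
    refine (orderOf_eq_prime h3 h4).symm.dvd.trans (R.orderOf_dvd_natCard ?_)
    simp only [List.mem_cons, List.not_mem_nil, or_false] at hw
    rcases hw with rfl | rfl | rfl | rfl <;> apply_rules [mul_mem]

end Cfsg.Agent.HJS
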