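import Cfsg.Agent.HJS.Facts
import Cfsg.Agent.BG.S1
import Cfsg.Agent.Invol.Transfer

/-! Fusion of involutions in groups with a Sylow 2-subgroup of type `J2` (helper12). -/

set_option autoImplicit false
set_option linter.unusedSectionVars false

namespace Cfsg.Agent.HJS

open Subgroup Cfsg.Agent.BG

variable {X : Type*} [Group X] [Finite X] {φ : TG →* X}

/-- `φ` is an isomorphism onto a Sylow 2-subgroup. -/
structure Emb (φ : TG →* X) : Prop where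
  inj : Function.Injective φ
  odd : ¬ 2 ∣ φ.range.index

/-- `g` conjugates `a` to `e` and the centralizer of `a` in `T` into `T`. -/
def Mv (φ : TG →* X) (g : X) (a e : TG) : Prop :=
  g * φ a * g⁻¹ = φ e ∧ ∀ c, Commute c a → ∃ c', g * φ c * g⁻¹ = φ c'

theorem cmul (g a b : X) : g * (a * b) * g⁻¹ = g * a * g⁻¹ * (g * b * g⁻¹) := by group
theorem cinj {g a b : X} : g * a * g⁻¹ = g * b * g⁻¹ ↔ a = b := by simp

namespace Emb

variable (E : Emb φ)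
include E

theorem card_range : #φ.range = 128 := by
  rw [← card_TG]; exact (Nat.card_congr (MonoidHom.ofInjective E.inj).toEquiv).symm
theorem card_map (H : Subgroup TG) : #(H.map φ) = #H := card_map_of_injective E.inj
theorem pg : IsPGroup 2 φ.range := IsPGroup.of_card (n := 7) E.card_range
theorem pg' (H : Subgroup TG) : IsPGroup 2 (H.map φ) := E.pg.to_le (map_le_range φ H)
theorem syl : SylowIn 2 φ.range ⊤ := sylow_mk le_top E.pg (by rw [relIndex_top_right]; exact E.odd)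
theorem mem_map {H : Subgroup TG} {a : TG} : φ a ∈ H.map φ ↔ a ∈ H := mem_map_iff_mem E.inj
theorem eq {a b : TG} : φ a = φ b ↔ a = b := E.inj.eq_iff
theorem eq1 {a : TG} : φ a = 1 ↔ a = 1 := by rw [← map_one φ, E.eq]

theorem tr_mul {g : X} {a b a' b' : TG} (h1 : g * φ a * g⁻¹ = φ a') (h2 : g * φ b * g⁻¹ = φ b') :
    g * φ (a * b) * g⁻¹ = φ (a' * b') := by rw [map_mul, cmul, h1, h2, map_mul]
theorem tr_eq {g : X} {a b a' b' : TG} (h1 : g * φ a * g⁻¹ = φ a') (h2 : g * φ b * g⁻¹ = φ b') :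
    a' = b' ↔ a = b := by rw [← E.eq, ← h1, ← h2, cinj, E.eq]
theorem tr_one (g : X) : g * φ 1 * g⁻¹ = φ 1 := by simp
theorem tr_eq1 {g : X} {a a' : TG} (h1 : g * φ a * g⁻¹ = φ a') : a' = 1 ↔ a = 1 := E.tr_eq h1 (E.tr_one g)
theorem tr_comm {g : X} {a b a' b' : TG} (h1 : g * φ a * g⁻¹ = φ a') (h2 : g * φ b * g⁻¹ = φ b')
    (h : Commute a b) : Commute a' b' := (E.tr_eq (E.tr_mul h1 h2) (E.tr_mul h2 h1)).2 h
theorem tr_sq {g : X} {a a' : TG} (h1 : g * φ a * g⁻¹ = φ a') : a' * a' = 1 ↔ a * a = 1 :=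
  E.tr_eq1 (E.tr_mul h1 h1)
theorem tr_in (k a : TG) : φ k * φ a * (φ k)⁻¹ = φ (k * a * k⁻¹) := by simp
theorem tr_comp {g h : X} {a b c : TG} (h1 : g * φ a * g⁻¹ = φ b) (h2 : h * φ b * h⁻¹ = φ c) :
    h * g * φ a * (h * g)⁻¹ = φ c := by rw [← h2, ← h1]; group
theorem tr_inv {g : X} {a b : TG} (h1 : g * φ a * g⁻¹ = φ b) : g⁻¹ * φ b * g⁻¹⁻¹ = φ a := by rw [← h1]; group

theorem ext {a b : TG} {g : X} (h : g * φ a * g⁻¹ = φ b) : ∃ e g1 g2, Mv φ g1 a e ∧ Mv φ g2 b e := by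
  have := Nat.fact_prime_two
  obtain ⟨R, hR, hle⟩ := Sylow_superset (p := 2) (inf_le_right : φ.range ⊓ C1[φ a] ≤ _) (E.pg.to_le inf_le_left)
  obtain ⟨g1, -, h1⟩ := Sylow_Jsub E.syl le_top hR.pg
  have hm : ∀ {a c : TG}, Commute c a → φ c ∈ φ.range ⊓ C1[φ a] := fun hc =>
    mem_inf.2 ⟨⟨_, rfl⟩, mem_cent1.2 (hc.map φ)⟩
  obtain ⟨e, he⟩ := h1 (conj_mem_cj g1 (hle (hm (Commute.refl a))))
  have hR' := pHallJ g1 hR
  rw [← C1_conj, ← he] at hR'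
  have hb : g1 * g⁻¹ * φ b * (g1 * g⁻¹)⁻¹ = φ e := by rw [he, ← h]; group
  obtain ⟨c, hc, h2⟩ := Sylow_Jsub hR' (Q := cj (g1 * g⁻¹) (φ.range ⊓ C1[φ b]))
    (by rw [← hb, C1_conj]; exact cj_mono _ inf_le_right) (IsPGroup.cj (E.pg.to_le inf_le_left) _)
  refine ⟨e, g1, c * (g1 * g⁻¹), ⟨he.symm, fun d hd => ?_⟩, E.tr_comp hb ?_, fun d hd => ?_⟩
  · obtain ⟨d', h⟩ := h1 (conj_mem_cj g1 (hle (hm hd)))
    exact ⟨d', h.symm⟩
  · rw [mem_cent1.1 hc, mul_inv_cancel_right]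
  · rw [← cj_mul] at h2
    obtain ⟨d', h⟩ := h1 (h2 (conj_mem_cj _ (hm hd)))
    exact ⟨d', h.symm⟩

theorem mv_R3 {g : X} {a e : TG} (h : Mv φ g a e) : R3 a → R3 e := by
  rintro ⟨c, ⟨c1, c2, c3, c4⟩, d, ⟨d1, d2, d3, d4⟩, h1, h2⟩
  obtain ⟨c', hc⟩ := h.2 c c1
  obtain ⟨d', hd⟩ := h.2 d d1
  exact ⟨c', ⟨E.tr_comm hc h.1 c1, (E.tr_sq hc).2 c2, mt (E.tr_eq1 hc).1 c3, mt (E.tr_eq hc h.1).1 c4⟩,
    d', ⟨E.tr_comm hd h.1 d1, (E.tr_sq hd).2 d2, mt (E.tr_eq1 hd).1 d3, mt (E.tr_eq hd h.1).1 d4⟩,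
    mt (E.tr_eq hc hd).1 h1, mt (E.tr_eq hc (E.tr_mul hd h.1)).1 h2⟩

theorem mv_O4 {g : X} {a e : TG} (h : Mv φ g a e) : O4 a → O4 e := by
  rintro ⟨c, c1, c2⟩
  obtain ⟨c', hc⟩ := h.2 c c1
  exact ⟨c', E.tr_comm hc h.1 c1, mt (E.tr_sq hc).1 c2⟩

theorem mv_O8 {g : X} {a e : TG} (h : Mv φ g a e) : O8 a → O8 e := by
  rintro ⟨c, c1, c2⟩
  obtain ⟨c', hc⟩ := h.2 c c1
  exact ⟨c', E.tr_comm hc h.1 c1, mt (E.tr_sq (E.tr_mul hc hc)).1 c2⟩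

/-- the image of `z` under a move lies in `V` when `z` is a square in the centralizer -/
theorem mv_z {g : X} {a e : TG} (h : Mv φ g a e) (hr : ∃ r, Commute r a ∧ r * r = tz) :
    ∃ w ∈ TV, g * φ tz * g⁻¹ = φ w := by
  obtain ⟨r, r1, r2⟩ := hr
  obtain ⟨r', hr⟩ := h.2 r r1
  have := E.tr_mul hr hr
  rw [r2] at this
  exact ⟨_, sq_V r' ((E.tr_sq this).2 zz), this⟩

/-- `t` is fused to `s` in `C(z)`. -/
theorem fuse (h2 : ∀ H : Subgroup X, H.index ≠ 2) :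
    ∃ h : X, h * φ tz * h⁻¹ = φ tz ∧ (h * φ tt * h⁻¹ = φ ts ∨ h * φ tt * h⁻¹ = φ (ts * tz)) := by
  have := Nat.fact_prime_two
  obtain ⟨P, hP⟩ := sylow_of_sylowIn_top E.syl
  obtain ⟨tQ, t1, tz', tst, rt, rs, sV, s1, sz, ss, zV⟩ := t_facts
  have tt2 := xt8.2.1
  obtain ⟨g, -, b, hb, hg⟩ := Invol.thompson_transfer h2 P (Q := TC.map φ) (u := φ tt) (by
    have := card_mul_relIndex (map_le_range φ TC)
    rw [E.card_map, card_TC, E.card_range] at this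
    rw [hP]; omega) (by rw [← map_mul, tt2, map_one]) (hP ▸ ⟨_, rfl⟩)
  replace hg := hg.symm
  obtain ⟨e, g1, g2, m1, m2⟩ := E.ext hg
  have e2 := (E.tr_sq m1.1).2 tt2
  have e1 := mt (E.tr_eq1 m1.1).1 t1
  have eV := R3_O4 e e2 (E.mv_O4 m1 (O4_Q _ tQ))
    (E.mv_R3 m2 (R3_out b ((E.tr_sq hg).2 tt2) hb (mt (E.tr_eq1 hg).1 t1)))
  obtain ⟨w, wV, hw⟩ := E.mv_z m1 rt
  have fin : ∀ h : X, h * φ tz * h⁻¹ = φ tz → ∀ v ∈ TV, h * φ tt * h⁻¹ = φ v →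
      ∃ h : X, h * φ tz * h⁻¹ = φ tz ∧ (h * φ tt * h⁻¹ = φ ts ∨ h * φ tt * h⁻¹ = φ (ts * tz)) :=
    fun h hz v hv ht => ⟨h, hz, by
      rcases (memV v).1 hv with rfl | rfl | rfl | rfl
      · exact absurd ((E.tr_eq1 ht).1 rfl) t1
      · exact absurd ((E.tr_eq ht hz).1 rfl) tz'
      · exact .inl ht
      · exact .inr ht⟩
  by_cases hwz : w = tz
  · exact fin g1 (hwz ▸ hw) e eV m1.1
  -- `z` is conjugate to `s`
  obtain ⟨k, hk⟩ : ∃ k : TG, k * w * k⁻¹ = ts := by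
    rcases (memV w).1 wV with rfl | rfl | rfl | rfl
    · exact absurd ((E.tr_eq1 hw).1 rfl) z1
    · exact absurd rfl hwz
    · exact ⟨1, by simp⟩
    · exact ⟨tt⁻¹, by rw [← tst]; group⟩
  have h3 := E.tr_comp hw (E.tr_in k w)
  have h4 := E.tr_comp m1.1 (E.tr_in k e)
  rw [hk] at h3
  obtain ⟨e', n1, n, p1, p2⟩ := E.ext h3
  obtain rfl : e' = tz := (O8_eq e' ((E.tr_sq p1.1).2 zz) (E.mv_O8 p1 O8_z)).resolve_left
    (mt (E.tr_eq1 p1.1).1 z1)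
  obtain ⟨w', wV', hw'⟩ := E.mv_z p2 rs
  have hn : ∀ v ∈ TV, ∃ v' ∈ TV, n * φ v * n⁻¹ = φ v' := fun v hv => by
    rcases (memV v).1 hv with rfl | rfl | rfl | rfl
    · exact ⟨1, one_mem _, E.tr_one n⟩
    · exact ⟨w', wV', hw'⟩
    · exact ⟨tz, zV, p2.1⟩
    · exact ⟨_, mul_mem zV wV', E.tr_mul p2.1 hw'⟩
  obtain ⟨v', hv', h5⟩ := hn _ (V_conj k e eV)
  exact fin _ (E.tr_comp h3 p2.1) v' hv' (E.tr_comp h4 h5)

theorem not_dvd_norm : ¬ 128 ∣ #N[TA.map φ] := fun h => by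
  have := Nat.fact_prime_two
  obtain ⟨P, hP, hle⟩ := Sylow_superset (p := 2) (le_normalizer : TA.map φ ≤ N[TA.map φ]) (E.pg' _)
  have h1 : 128 ∣ #P := by
    rw [← card_mul_relIndex hP.le] at h
    exact (Nat.Coprime.pow_left 7 (Nat.prime_two.coprime_iff_not_dvd.2 hP.not_dvd)).dvd_of_dvd_mul_right h
  obtain ⟨g, -, hg⟩ := Sylow_Jsub E.syl le_top hP.pg
  have h2 : cj g P = φ.range := eq_of_le_of_card_ge hg (by
    rw [card_cj, E.card_range]; exact Nat.le_of_dvd Nat.card_pos h1)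
  have h3 : cj g (TA.map φ) ≤ TV.map φ := by
    rintro - ⟨-, ⟨a, ha, rfl⟩, rfl⟩
    obtain ⟨a', h⟩ := hg (conj_mem_cj g (hle (mem_map_of_mem φ ha)))
    replace h := h.symm
    refine ⟨a', norm_E a' ((E.tr_sq h).2 (A_sq a ha)) fun k => ?_, h.symm⟩
    obtain ⟨p, hp, hk⟩ := mem_cj'.1 (h2.ge ⟨k, rfl⟩)
    obtain ⟨b, hb, hb'⟩ := (mem_normalizer_iff.1 (hP.le hp) (φ a)).1 (mem_map_of_mem φ ha)
    refine E.tr_comm h (b := b) ?_ (A_comm a ha b hb)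
    rw [← E.tr_in, ← h, ← hk, hb']; group
  have := card_le_of_le h3
  rw [card_cj, E.card_map, E.card_map, card_A, card_V] at this
  omega

/-- In a group with `z` central no involution outside `Q` is conjugate into `Q`. -/
theorem not_fused_A (hz : ∀ g : X, g * φ tz * g⁻¹ = φ tz) {w q : TG} (hw : w ∈ TA) (hwV : w ∉ TV) (hq : q ∈ TQ)
    {g : X} (hg : g * φ w * g⁻¹ = φ q) : False := by
  have := Nat.fact_prime_two
  obtain ⟨tQ, t1, tz', tst, rt, rs, sV, s1, sz, ss, zV⟩ := t_facts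
  have w2 := A_sq w hw
  have w1 : w ≠ 1 := fun e => hwV (e ▸ one_mem _)
  have wz : w ≠ tz := fun e => hwV (e ▸ zV)
  obtain ⟨e, g1, g2, m1, m2⟩ := E.ext hg
  have e1 := mt (E.tr_eq1 m1.1).1 w1
  have ez := mt (E.tr_eq m1.1 (hz g1)).1 wz
  have eV := R3_O4 e ((E.tr_sq m1.1).2 w2) (E.mv_O4 m2 (O4_Q _ hq))
    (E.mv_R3 m1 (R3_out w w2 (out_TC w w2 fun h => hwV (A_Q w hw h)) w1))
  have sA := V_le_A sV
  obtain ⟨s', hs⟩ := m1.2 ts (A_comm _ sA _ hw)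
  have hsV : s' ∉ TV := fun h => by
    rcases memV' e eV e1 ez s' h with h | h | h | h
    · exact s1 ((E.tr_eq1 hs).1 h)
    · exact sz ((E.tr_eq hs (hz g1)).1 h)
    · exact hwV ((E.tr_eq hs m1.1).1 h ▸ sV)
    · have := (E.tr_eq hs (E.tr_mul m1.1 (hz g1))).1 h
      exact hwV ((mul_mem_cancel_right zV).1 (this ▸ sV))
  obtain ⟨k, hk⟩ := to_A' e eV e1 ez s' ((E.tr_sq hs).2 ss) (E.tr_comm hs m1.1 (A_comm _ sA _ hw)) hsV
  have hkV : k * s' * k⁻¹ ∉ TV := fun h => hsV (by simpa [mul_assoc] using V_conj k⁻¹ _ h)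
  have h1 := E.tr_comp hs (E.tr_in k s')
  have h2 := E.tr_comp m1.1 (E.tr_in k e)
  set G := φ k * g1
  set u := k * s' * k⁻¹
  set f := k * e * k⁻¹
  set A := TA.map φ
  set V := TV.map φ
  have hG : G ∈ N[A] := mem_norm_of_cj_le (by
    rintro - ⟨-, ⟨a, ha, rfl⟩, rfl⟩
    obtain ⟨a', h⟩ := m1.2 a (A_comm _ ha _ hw)
    have h3 := E.tr_comp h (E.tr_in k a')
    exact ⟨_, A_cent u hk hkV _ (E.tr_comm h3 h1 (A_comm _ ha _ sA)), h3.symm⟩)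
  obtain ⟨b, hb, hbu, c, hc, hbc⟩ := exists_b u hk f (V_conj k e eV) (mt (E.tr_eq1 h2).1 w1)
    (mt (E.tr_eq h2 (hz G)).1 wz)
  have nA : ∀ {m : X}, m ∈ N[A] → ∀ a ∈ A, m * a * m⁻¹ ∈ A := fun hm a ha => (mem_normalizer_iff.1 hm a).1 ha
  have nV : ∀ {m : X}, m ∈ N[V] → ∀ a ∈ V, m * a * m⁻¹ ∈ V := fun hm a ha => (mem_normalizer_iff.1 hm a).1 ha
  set M := N[A] ⊓ N[V] with hM
  let K : Subgroup M :=
    { carrier := {m | ∀ a ∈ A, (m : X) * a * (m : X)⁻¹ * a⁻¹ ∈ V}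
      one_mem' := fun a _ => by simp
      mul_mem' := fun {m n} hm hn a ha => by
        have := mul_mem (nV (mem_inf.1 m.2).2 _ (hn a ha)) (hm a ha)
        convert this using 1
        simp only [coe_mul]; group
      inv_mem' := fun {m} hm a ha => by
        have := inv_mem (hm _ (nA (inv_mem (mem_inf.1 m.2).1) a ha))
        convert this using 1
        simp only [coe_inv]; group }
  have hKn : K.Normal := ⟨fun m hm n a ha => by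
    have := nV (mem_inf.1 n.2).2 _ (hm _ (nA (inv_mem (mem_inf.1 n.2).1) a ha))
    convert this using 1
    simp only [coe_mul, coe_inv]; group⟩
  have hCM : TC.map φ ≤ M := by
    rintro - ⟨d, hd, rfl⟩
    refine mem_inf.2 ⟨mem_norm_of_cj_le ?_, mem_norm_of_cj_le ?_⟩
    · rintro - ⟨-, ⟨a, ha, rfl⟩, rfl⟩
      exact ⟨_, (TC_A d hd a ha).1, (E.tr_in d a).symm⟩
    · rintro - ⟨-, ⟨a, ha, rfl⟩, rfl⟩
      exact ⟨_, V_conj d a ha, (E.tr_in d a).symm⟩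
  have hCK : (TC.map φ).subgroupOf M ≤ K := by
    rintro ⟨m, hm⟩ ⟨d, hd, rfl⟩ - ⟨a, ha, rfl⟩
    exact ⟨_, (TC_A d hd a ha).2, by simp⟩
  have hodd : ¬ 2 ∣ K.index := fun h => E.not_dvd_norm (by
    refine dvd_trans ?_ (card_dvd_of_le (inf_le_left : M ≤ _))
    rw [← K.card_mul_index]
    refine Nat.mul_dvd_mul (a := 64) (c := 2) ?_ h
    rw [← card_TC, ← E.card_map, ← Nat.card_congr (subgroupOfEquivOfLe hCM).toEquiv]
    exact card_dvd_of_le hCK)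
  have hB : G⁻¹ * φ b * G ∈ M := by
    refine mem_inf.2 ⟨mul_mem (mul_mem (inv_mem hG) (mem_inf.1 (hCM (mem_map_of_mem φ hb))).1) hG,
      mem_norm_of_cj_le ?_⟩
    have hs2 : ∃ v ∈ TV, G⁻¹ * φ b * G * φ ts * (G⁻¹ * φ b * G)⁻¹ = φ v := by
      have h3 := E.tr_comp h1 (E.tr_in b u)
      rw [mul_assoc G⁻¹]
      rcases hbu with h | h <;> rw [h] at h3
      · exact ⟨ts, sV, E.tr_comp h3 (E.tr_inv h1)⟩
      · exact ⟨_, mul_mem sV zV, E.tr_comp h3 (E.tr_inv (E.tr_mul h1 (hz G)))⟩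
    obtain ⟨v, hv, h3⟩ := hs2
    rintro - ⟨-, ⟨a, ha, rfl⟩, rfl⟩
    rcases (memV a).1 ha with rfl | rfl | rfl | rfl
    · simp
    · exact ⟨tz, zV, (hz _).symm⟩
    · exact ⟨v, hv, h3.symm⟩
    · exact ⟨_, mul_mem hv zV, (E.tr_mul h3 (hz _)).symm⟩
  have hBK : (⟨_, hB⟩ : M) ∈ K := by
    have h3 : orderOf (⟨_, hB⟩ : M) ∣ 2 ^ 7 := orderOf_dvd_of_pow_eq_one (Subtype.ext (by
      show (G⁻¹ * φ b * G) ^ 2 ^ 7 = 1
      rw [show G⁻¹ * φ b * G = G⁻¹ * φ b * G⁻¹⁻¹ by simp, conj_pow, ← map_pow,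
        show 2 ^ 7 = Nat.card TG from card_TG.symm, pow_card_eq_one']
      simp))
    obtain ⟨m, hm⟩ := exists_pow_eq_self_of_coprime (Nat.Coprime.coprime_dvd_right h3
      (Nat.Coprime.pow_right 7 (Nat.prime_two.coprime_iff_not_dvd.2 hodd).symm))
    exact hm ▸ pow_mem (pow_index_mem K _) m
  have h3 := hBK _ (nA (inv_mem hG) _ (mem_map_of_mem φ hc))
  have h4 : G⁻¹ * φ b * G * (G⁻¹ * φ c * G⁻¹⁻¹) * (G⁻¹ * φ b * G)⁻¹ * (G⁻¹ * φ c * G⁻¹⁻¹)⁻¹ =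
      G⁻¹ * φ (b * c * b⁻¹ * c⁻¹) * G⁻¹⁻¹ := by simp only [map_mul, map_inv]; group
  simp only [h4] at h3
  rcases hbc with h | h <;> rw [h] at h3
  · rw [E.tr_inv h2] at h3
    exact hwV (E.mem_map.1 h3)
  · rw [E.tr_inv (E.tr_mul h2 (hz G))] at h3
    exact hwV ((mul_mem_cancel_right zV).1 (E.mem_map.1 h3))

theorem not_fused (hz : ∀ g : X, g * φ tz * g⁻¹ = φ tz) {w q : TG} (hw : w * w = 1) (hwQ : w ∉ TQ) (hq : q ∈ TQ)
    {g : X} (hg : g * φ w * g⁻¹ = φ q) : False := by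
  obtain ⟨k, hk⟩ := to_A w hw hwQ
  exact E.not_fused_A hz hk (fun h => hwQ (by simpa [mul_assoc] using Q_conj k⁻¹ _ (V_le_Q h))) hq
    (E.tr_comp (E.tr_inv (E.tr_in k w)) hg)

end Emb

end Cfsg.Agent.HJS
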