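import Cfsg.Agent.HJS.Norm
import Cfsg.Agent.BG.S3Gen
import Cfsg.Agent.S0205

/-! The configuration `V ≤ A, B ≤ U` (`U` of type `L₃(4)`, of index at most two in a Sylow 2-subgroup of type `J2`)
(helper12). -/

set_option autoImplicit false
set_option linter.unusedSectionVars false
set_option maxRecDepth 100000

namespace Cfsg.Agent.HJS

open Subgroup Cfsg.Agent.BG

def TB : Subgroup TG := cj tt TA

instance instDecB (a : TG) : Decidable (a ∈ TB) := decidable_of_iff _ (mem_cj (g := tt) (A := TA)).symm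

theorem card_B : Nat.card TB = 16 := (card_cj _ _).trans card_A
theorem g_AB : ∀ a : TG, (a ∈ TA ∧ a ∈ TB ↔ a ∈ TV) ∧ (a ∈ TA → a ∈ TC) ∧ (a ∈ TB → a ∈ TC ∧ a * a = 1) := by
  decide +kernel
theorem g_gen : ∀ u ∈ TC, ∃ a ∈ TA, a⁻¹ * u ∈ TB := by decide +kernel
theorem g_inv : ∀ u ∈ TC, u * u ∈ TV ∧ (u * u = 1 → u ∈ TA ∨ u ∈ TB) := by decide +kernel
theorem g_com : ∀ u ∈ TC, ∀ w ∈ TC, u * w * u⁻¹ * w⁻¹ ∈ TV := by decide +kernel
theorem g_cenB : ∀ a ∈ TB, a ∉ TV → ∀ b, Commute b a → b ∈ TB := by decide +kernel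
theorem g_mov : ∀ x ∈ TC, x ∉ TV → ∀ v ∈ TV, ∃ b ∈ TC, b * x * b⁻¹ = x * v := by decide +kernel
theorem g_swap : ∀ g : TG, g ∉ TC → (∀ a ∈ TA, g * a * g⁻¹ ∈ TB) ∧ (∀ a ∈ TB, g * a * g⁻¹ ∈ TA) ∧
    (∀ v ∈ TV, Commute g v → v = 1 ∨ v = tz) ∧ (g * g = 1 → ∃ q, Commute q g ∧ q * q = tz) := by decide +kernel
theorem g_cls : ∀ t : TG, t ∉ TC → t * t = 1 → ∀ t' : TG, t' ∉ TC → t' * t' = 1 → ∃ k, k * t * k⁻¹ = t' := by
  decide +kernel

variable {G : Type*} [Group G] [Finite G]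

/-- 2-groups properly containing `U`. -/
structure Ext (V A B U S : Subgroup G) (z : G) : Prop where
  cS : #S = 128
  swap : ∀ g ∈ S, g ∉ U → cj g A = B ∧ cj g B = A
  zV : z ∈ V
  z1 : z ≠ 1
  zc : ∀ g ∈ S, Commute g z
  fix : ∀ g ∈ S, g ∉ U → ∀ v ∈ V, Commute g v → v = 1 ∨ v = z
  rt : ∀ t ∈ S, t ∉ U → t * t = 1 → ∃ q ∈ S, Commute q t ∧ q * q = z
  sq : ∀ r ∈ S, r * r * (r * r) = 1 → r * r ∈ V
  cls : ∀ t ∈ S, t ∉ U → t * t = 1 → ∀ t' ∈ S, t' ∉ U → t' * t' = 1 → ∃ k, k * t * k⁻¹ = t'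

structure Fr (V A B U : Subgroup G) : Prop where
  inf : A ⊓ B = V
  sup : A ⊔ B = U
  cV : #V = 4
  cA : #A = 16
  cB : #B = 16
  cU : #U = 64
  eA : ∀ a ∈ A, a * a = 1
  eB : ∀ a ∈ B, a * a = 1
  sq : ∀ u ∈ U, u * u ∈ V
  inv : ∀ u ∈ U, u * u = 1 → u ∈ A ∨ u ∈ B
  com : ∀ u ∈ U, ∀ w ∈ U, u * w * u⁻¹ * w⁻¹ ∈ V
  cenA : ∀ x ∈ A, x ∉ V → ∀ u ∈ U, Commute u x → u ∈ A
  cenB : ∀ x ∈ B, x ∉ V → ∀ u ∈ U, Commute u x → u ∈ B
  mov : ∀ x ∈ U, x ∉ V → ∀ v ∈ V, ∃ b ∈ U, b * x * b⁻¹ = x * v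
  ext : ∀ S : Subgroup G, IsPGroup 2 S → U < S → ∃ z, Ext V A B U S z

theorem Fr.symm {V A B U : Subgroup G} (F : Fr V A B U) : Fr V B A U :=
  { F with
    inf := inf_comm A B ▸ F.inf, sup := sup_comm A B ▸ F.sup, cA := F.cB, cB := F.cA, eA := F.eB, eB := F.eA
    inv := fun u h h' => (F.inv u h h').symm, cenA := F.cenB, cenB := F.cenA
    ext := fun S h h' => (F.ext S h h').imp fun _ E => { E with swap := fun g a b => (E.swap g a b).symm } }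

/-- The model. -/
structure Md (ψ : TC →* G) : Prop where
  inj : Function.Injective ψ
  ext : ∀ S : Subgroup G, IsPGroup 2 S → mim ψ TC < S → ∃ φ : TG →* G, Function.Injective φ ∧ φ.range = S ∧
    TC.map φ = mim ψ TC ∧ TA.map φ = mim ψ TA ∧ TB.map φ = mim ψ TB

theorem Md.card {ψ : TC →* G} (M : Md ψ) {H : Subgroup TG} (h : H ≤ TC) : #(mim ψ H) = #H :=
  (card_map_of_injective M.inj).trans (card_subgroupOf h)

theorem Md.mem {ψ : TC →* G} (M : Md ψ) {H : Subgroup TG} {a : TC} : ψ a ∈ mim ψ H ↔ (a : TG) ∈ H :=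
  ⟨fun h => by obtain ⟨b, hb, e⟩ := mem_mim.1 h; exact M.inj e ▸ hb, mem_mim_of a⟩

theorem inf_AB : TA ⊓ TB = TV := Subgroup.ext fun a => (g_AB a).1

theorem Md.fr {ψ : TC →* G} (M : Md ψ) : Fr (mim ψ TV) (mim ψ TA) (mim ψ TB) (mim ψ TC) := by
  have AC : TA ≤ TC := fun a => (g_AB a).2.1
  have BC : TB ≤ TC := fun a h => ((g_AB a).2.2 h).1
  have cm : ∀ {a b : TC}, Commute (ψ a) (ψ b) → Commute (a : TG) b := fun h =>
    congrArg Subtype.val (M.inj ((map_mul ψ _ _).trans (h.eq.trans (map_mul ψ _ _).symm)))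
  have hinf : mim ψ TA ⊓ mim ψ TB = mim ψ TV := by
    rw [← inf_AB]
    refine le_antisymm (fun g ⟨h1, h2⟩ => ?_) (morphimI _ _ _)
    obtain ⟨a, ha, rfl⟩ := mem_mim.1 h1
    exact M.mem.2 ⟨ha, M.mem.1 h2⟩
  refine ⟨hinf, ?_, (M.card (V_le_A.trans AC)).trans card_V, (M.card AC).trans card_A, (M.card BC).trans card_B,
    (M.card le_rfl).trans card_TC, fun g h => ?_, fun g h => ?_, fun g h => ?_, fun g h h2 => ?_,
    fun g h g' h' => ?_, fun g h hV g' h' hc => ?_, fun g h hV g' h' hc => ?_, fun g h hV g' h' => ?_,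
    fun S hS hlt => ?_⟩
  · rw [← morphimY _ AC BC]
    congr 1
    refine le_antisymm (sup_le AC BC) fun u hu => ?_
    obtain ⟨a, ha, hb⟩ := g_gen u hu
    simpa using mul_mem_sup' ha hb
  all_goals try obtain ⟨a, ha, rfl⟩ := mem_mim.1 h
  all_goals try obtain ⟨b, hb, rfl⟩ := mem_mim.1 h'
  · rw [← map_mul, show a * a = 1 from Subtype.ext (A_sq _ ha), map_one]
  · rw [← map_mul, show a * a = 1 from Subtype.ext ((g_AB _).2.2 ha).2, map_one]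
  · rw [← map_mul]; exact M.mem.2 (g_inv _ ha).1
  · rw [← map_mul, ← map_one ψ] at h2
    simpa only [M.mem] using (g_inv _ ha).2 (congrArg Subtype.val (M.inj h2))
  · simp only [← map_mul, ← map_inv]; exact M.mem.2 (g_com _ ha _ hb)
  · exact M.mem.2 (A_cent _ ha (mt M.mem.2 hV) _ (cm hc))
  · exact M.mem.2 (g_cenB _ ha (mt M.mem.2 hV) _ (cm hc))
  · obtain ⟨c, hc, e⟩ := g_mov _ ha (mt M.mem.2 hV) _ hb
    refine ⟨ψ ⟨c, hc⟩, M.mem.2 hc, ?_⟩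
    simp only [← map_mul, ← map_inv]
    exact congrArg ψ (Subtype.ext e)
  · obtain ⟨φ, hi, rfl, e1, e2, e3⟩ := M.ext S hS hlt
    have mm : ∀ {H : Subgroup TG} {a : TG}, φ a ∈ H.map φ ↔ a ∈ H := mem_map_iff_mem hi
    have cm : ∀ {a b : TG}, Commute (φ a) (φ b) → Commute a b := fun h =>
      hi ((map_mul φ _ _).trans (h.eq.trans (map_mul φ _ _).symm))
    rw [← hinf, ← e1, ← e2, ← e3, ← map_inf _ _ _ hi, inf_AB]
    have sw : ∀ (g : TG) (H K : Subgroup TG), (∀ a ∈ H, g * a * g⁻¹ ∈ K) → #H = #K → cj (φ g) (H.map φ) = K.map φ :=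
      fun g H K h hc => by
        rw [← map_cj]
        congr 1
        refine eq_of_card_le (fun b hb => ?_) (by rw [card_cj, hc])
        obtain ⟨a, ha, rfl⟩ := mem_cj'.1 hb
        exact h a ha
    refine ⟨φ tz, ?_, ?_, mm.2 t_facts.2.2.2.2.2.2.2.2.2.2, fun h => z1 (hi (h.trans (map_one φ).symm)), ?_, ?_, ?_, ?_, ?_⟩
    · rw [MonoidHom.range_eq_map, card_map_of_injective hi, card_top]
      exact Nat.card_eq_fintype_card.trans (by decide +kernel)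
    · rintro - ⟨g, rfl⟩ hg
      obtain ⟨h1, h2, -⟩ := g_swap g (mt mm.2 hg)
      exact ⟨sw g _ _ h1 (card_A.trans card_B.symm), sw g _ _ h2 (card_B.trans card_A.symm)⟩
    · rintro - ⟨g, rfl⟩
      exact (zc g).map φ
    · rintro - ⟨g, rfl⟩ hg - ⟨v, hv, rfl⟩ hc
      exact ((g_swap g (mt mm.2 hg)).2.2.1 v hv (cm hc)).imp (fun h => by rw [h, map_one]) fun h => by rw [h]
    · rintro - ⟨g, rfl⟩ hg h2
      obtain ⟨q, h1, h2⟩ := (g_swap g (mt mm.2 hg)).2.2.2 (hi (by rw [map_mul, h2, map_one]))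
      exact ⟨φ q, ⟨q, rfl⟩, h1.map φ, by rw [← map_mul, h2]⟩
    · rintro - ⟨g, rfl⟩ hg
      rw [← map_mul]
      exact mm.2 (sq_V g (hi (by simpa only [map_mul, map_one] using hg)))
    · rintro - ⟨g, rfl⟩ hg h2 - ⟨g', rfl⟩ hg' h2'
      obtain ⟨k, e⟩ := g_cls g (mt mm.2 hg) (hi (by rw [map_mul, h2, map_one])) g' (mt mm.2 hg')
        (hi (by rw [map_mul, h2', map_one]))
      exact ⟨φ k, by rw [← e, map_mul, map_mul, map_inv]⟩

abbrev Oc (v : G) : Subgroup G := Op' 2 C1[v]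

theorem odd_Op' (M : Subgroup G) : Odd #(Op' 2 M) := pnat_odd.1 (pcore_pgroup _ _)
theorem le_Op' {X M : Subgroup G} (h : X ⊴ M) (ho : Odd #X) : X ≤ Op' 2 M := pcore_max h (pnat_odd.2 ho)
theorem cop2 {X A : Subgroup G} (ho : Odd #X) (h : IsPGroup 2 A) : (#X).Coprime #A :=
  have := Nat.fact_prime_two
  pnat_coprime' (π := {2}) (pnat_odd.2 ho) h.pi
theorem sol2 {A : Subgroup G} (h : IsPGroup 2 A) : Group.IsSolvable A := have := Nat.fact_prime_two; pgroup_sol h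

/-- The local hypotheses on the centralisers of the involutions of `V`. -/
structure Lc (V A B : Subgroup G) : Prop where
  oA : ∀ v ∈ V, v ≠ 1 → ∀ X : Subgroup G, X ≤ C1[v] → Odd #X → A ≤ N[X] → X ≤ Oc v
  oB : ∀ v ∈ V, v ≠ 1 → ∀ X : Subgroup G, X ≤ C1[v] → Odd #X → B ≤ N[X] → X ≤ Oc v
  opp : ∀ v ∈ V, v ≠ 1 → ∃ Y, V ≤ Y ∧ Y ⊴ C1[v] ∧ ∀ y ∈ Y, Odd (orderOf y) → y ∈ Oc v

theorem Lc.symm {V A B : Subgroup G} (L : Lc V A B) : Lc V B A := ⟨L.oB, L.oA, L.opp⟩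

section inherit
variable {G' : Type*} [Group G'] [Finite G'] {N : Subgroup G} {f : N →* G'}

theorem map_comp_cod {X : Type*} [Group X] (φ : X →* G) (h : ∀ c, φ c ∈ N) (H : Subgroup X) :
    H.map (f.comp (φ.codRestrict N h)) = mim f (H.map φ) := by
  ext y
  simp only [mem_map, mem_mim]
  exact ⟨fun ⟨c, hc, e⟩ => ⟨_, ⟨c, hc, rfl⟩, e⟩, fun ⟨x, ⟨c, hc, e⟩, e'⟩ => ⟨c, hc, by
    rw [← e']; exact congrArg f (Subtype.ext e)⟩⟩

theorem inj_comp_cod (ho : Odd #(mker f)) {X : Type*} [Group X] (φ : X →* G) (h : ∀ c, φ c ∈ N)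
    (hi : Function.Injective φ) (hp : IsPGroup 2 φ.range) : Function.Injective (f.comp (φ.codRestrict N h)) :=
  (injective_iff_map_eq_one _).2 fun c hc => (injective_iff_map_eq_one _).1 hi c
    (mem_bot.1 ((coprime_TI (cop2 ho hp)).le ⟨mem_mker.2 ⟨h c, hc⟩, c, rfl⟩))

theorem cover_cent (ho : Odd #(mker f)) {X : Subgroup G'} (hf : Function.Surjective f) {v : N}
    (h2 : (v : G) * v = 1) (hX : X ≤ C1[f v]) : mim f (mpre f X ⊓ C1[(v : G)]) = X := by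
  have hp : IsPGroup 2 (zpowers (v : G)) := (cycle_abelem (p := 2) (by rw [pow_two, h2])).pg
  have hv : zpowers (v : G) ≤ N := zpowers_le.2 v.2
  have hr : mim f (mpre f X) = X := morphpreK (by rw [MonoidHom.range_eq_top.2 hf]; exact le_top)
  have := Solv.sup_inf_centralizer_eq_of_commutator_le (K := mpre f X) (hv.trans (mker_normal f).norm)
    (cop2 ho hp).symm (.inl (sol2 hp)) (ker_sub_pre f X) ((morphim_cents2 (morphpre_sub f X) hv).1 (by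
      rw [hr, morphim_zpowers, C_zpowers]; exact hX))
  rw [C_zpowers] at this
  conv_rhs => rw [← hr, ← this, morphimY _ (mker_sub f) (inf_le_left.trans (morphpre_sub f X)), morphim_ker, bot_sup_eq]

theorem mim_Oc (ho : Odd #(mker f)) (hf : Function.Surjective f) {v : N} (h2 : (v : G) * v = 1) {Y : Subgroup G}
    (hY : Y ⊴ C1[(v : G)]) : mim f Y ⊴ C1[f v] := by
  have h1 : mim f C1[(v : G)] = C1[f v] := le_antisymm (by
    rw [← C_zpowers, ← C_zpowers, ← morphim_zpowers]; exact morphim_cents f le_rfl)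
    ((cover_cent ho hf h2 le_rfl).ge.trans (morphimS f inf_le_right))
  exact h1 ▸ morphim_normal f hY

theorem odd_mpre (ho : Odd #(mker f)) {X : Subgroup G'} (hX : Odd #X) : Odd #(mpre f X) :=
  pnat_odd.1 (pgroup_of_idx (ker_sub_pre f X) (pnat_odd.2 ho) (by
    rw [← card_morphim (morphpre_sub f X)]
    exact pgroupS (morphim_pre_le f X) (pnat_odd.2 hX)))

theorem Lc.inh {V A B : Subgroup G} (L : Lc V A B) (ho : Odd #(mker f)) (hf : Function.Surjective f) (hA : A ≤ N)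
    (hB : B ≤ N) (hVA : V ≤ A) (hVB : V ≤ B) (e : ∀ v ∈ V, v * v = 1) (cA : V ≤ C[A]) (cB : V ≤ C[B]) :
    Lc (mim f V) (mim f A) (mim f B) := by
  have key : ∀ A : Subgroup G, A ≤ N → V ≤ C[A] →
      (∀ v ∈ V, v ≠ 1 → ∀ X : Subgroup G, X ≤ C1[v] → Odd #X → A ≤ N[X] → X ≤ Oc v) →
      ∀ v ∈ mim f V, v ≠ 1 → ∀ X : Subgroup G', X ≤ C1[v] → Odd #X → mim f A ≤ N[X] → X ≤ Oc v :=
    fun A hA cA h v hv0 v1 X hX oX nX => by
      obtain ⟨v, hv, rfl⟩ := mem_mim.1 hv0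
      have v1' : (v : G) ≠ 1 := fun e => v1 (by rw [show v = 1 from Subtype.ext e, map_one])
      rw [← cover_cent ho hf (e _ hv) hX]
      exact (morphimS f (h v hv v1' _ inf_le_right (oddSg inf_le_left (odd_mpre ho oX))
        (normsI (norms_morphpre hA nX) (norms_cent1 (le_cent1_iff.2 (cA hv)))))).trans
        (le_Op' (mim_Oc ho hf (e _ hv) (pcore_normal _ _)) (morphim_odd f (odd_Op' _)))
  refine ⟨key A hA cA L.oA, key B hB cB L.oB, fun v hv0 v1 => ?_⟩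
  obtain ⟨v, hv, rfl⟩ := mem_mim.1 hv0
  obtain ⟨Y, h1, h2, h3⟩ := L.opp v hv fun e => v1 (by rw [show v = 1 from Subtype.ext e, map_one])
  refine ⟨mim f Y, morphimS f h1, mim_Oc ho hf (e _ hv) h2, fun y hy0 oy => ?_⟩
  obtain ⟨y, hy, rfl⟩ := mem_mim.1 hy0
  refine le_Op' (mim_Oc ho hf (e _ hv) (pcore_normal _ _)) (morphim_odd f (odd_Op' _)) (mem_mim_of y (h3 y hy ?_))
  exact (odd_mpre (X := zpowers (f y)) ho (by rwa [Nat.card_zpowers])).of_dvd_nat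
    (orderOf_dvd_cardG (mem_mpre.2 ⟨y.2, mem_zpowers _⟩))

theorem Md.inh {ψ : TC →* G} (M : Md ψ) (ho : Odd #(mker f)) (hf : Function.Surjective f) (hU : mim ψ TC ≤ N) :
    ∃ ψ' : TC →* G', Md ψ' ∧ ∀ H, mim ψ' H = mim f (mim ψ H) := by
  have := Nat.fact_prime_two
  have pU : IsPGroup 2 (mim ψ TC) := pgroup_of_card (k := 6) M.fr.cU
  have h0 : ∀ c, ψ c ∈ N := fun c => hU (M.mem.2 c.2)
  have e0 : ∀ H, mim (f.comp (ψ.codRestrict N h0)) H = mim f (mim ψ H) := fun H => map_comp_cod ψ h0 _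
  refine ⟨_, ⟨inj_comp_cod ho ψ h0 M.inj (morphim_dom ψ ▸ pU), fun S hS hlt => ?_⟩, e0⟩
  simp only [e0] at hlt ⊢
  obtain ⟨P, hP, hUP⟩ := Sylow_superset ((sub_morphim_pre hU).1 hlt.le) pU
  have e1 : mim f P = S := by
    have := morphim_pHall f (morphpre_sub f S) hP
    rw [morphpreK (by rw [MonoidHom.range_eq_top.2 hf]; exact le_top)] at this
    exact (Hall_max this this.le le_rfl hS.pi).symm
  obtain ⟨φ, hi, rfl, e2, e3, e4⟩ := M.ext P hP.pg (hUP.lt_of_ne fun e => hlt.ne (by rw [← e1, e]))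
  have h1 : ∀ c, φ c ∈ N := fun c => morphpre_sub f S (hP.le ⟨c, rfl⟩)
  refine ⟨_, inj_comp_cod ho φ h1 hi hP.pg, ?_, ?_, ?_, ?_⟩
  · rw [← e1, MonoidHom.range_eq_map, MonoidHom.range_eq_map, map_comp_cod]
  all_goals simp only [map_comp_cod, e2, e3, e4]

end inherit

end Cfsg.Agent.HJS
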