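import Cfsg.Agent.HJS.G1
import Cfsg.Agent.BG.S1
import Mathlib.GroupTheory.Focal

/-! General lemmas and the 2-structure of the configuration (helper12). -/

set_option autoImplicit false
set_option linter.unusedSectionVars false

namespace Cfsg.Agent.HJS

open Subgroup Cfsg.Agent.BG

variable {G : Type*} [Group G] [Finite G]

open scoped IsMulCommutative in
theorem exists_ker_top {S Q : Subgroup G} (hS : SylowIn 2 S ⊤) (hQ : Q ≤ S) (hc : ⁅S, S⁆ ≤ Q) :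
    ∃ K : Subgroup G, K.Normal ∧ (∀ g, Odd (orderOf g) → g ∈ K) ∧
      ∀ a ∈ S, (∀ (k : ℕ) (g : G), g * a ^ k * g⁻¹ ∈ S → g * a ^ k * g⁻¹ * (a ^ k)⁻¹ ∈ Q) → (a ∈ K ↔ a ∈ Q) := by
  have := Nat.fact_prime_two
  have hn : (Q.subgroupOf S).Normal := (sub_der1_normal hc hQ).subgroupOf
  have hcm : IsMulCommutative (S ⧸ Q.subgroupOf S) := ⟨⟨fun a b => by
    obtain ⟨a, rfl⟩ := QuotientGroup.mk_surjective a
    obtain ⟨b, rfl⟩ := QuotientGroup.mk_surjective b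
    rw [← QuotientGroup.mk_mul, ← QuotientGroup.mk_mul, QuotientGroup.eq, mem_subgroupOf]
    have := hc (commutator_mem_commutator (inv_mem b.2) (inv_mem a.2))
    simpa [commutatorElement_def, mul_assoc] using this⟩⟩
  have hp : IsPGroup 2 (S ⧸ Q.subgroupOf S) := hS.pg.to_quotient _
  let τ : G →* S ⧸ Q.subgroupOf S := MonoidHom.transfer (QuotientGroup.mk' _)
  refine ⟨τ.ker, inferInstance, fun g hg => ?_, fun a ha h => ?_⟩
  · obtain ⟨k, hk⟩ := hp (τ g)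
    exact orderOf_eq_one_iff.1 (Nat.eq_one_of_dvd_coprimes ((Nat.coprime_two_right.2 hg).pow_right k)
      (orderOf_map_dvd τ g) (orderOf_dvd_of_pow_eq_one hk))
  · have e : τ a = (QuotientGroup.mk ⟨a, ha⟩ : S ⧸ Q.subgroupOf S) ^ S.index := by
      have : Fintype (Quotient (MulAction.orbitRel (zpowers a) (G ⧸ S))) := Fintype.ofFinite _
      rw [index_eq_sum_minimalPeriod S a, ← Finset.prod_pow_eq_pow_sum,
        MonoidHom.transfer_eq_prod_quotient_orbitRel_zpowers_quot]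
      refine Finset.prod_congr rfl fun q _ => ?_
      rw [QuotientGroup.mk'_apply, ← QuotientGroup.mk_pow, ← mul_inv_eq_one, ← QuotientGroup.mk_inv,
        ← QuotientGroup.mk_mul, QuotientGroup.eq_one_iff, mem_subgroupOf]
      have := h _ q.out.out⁻¹ (by simpa using QuotientGroup.out_conj_pow_minimalPeriod_mem S a q.out)
      simpa using this
    have hi : ¬ 2 ∣ S.index := by simpa using hS.not_dvd
    rw [MonoidHom.mem_ker, e]
    have := (hp.powEquiv' hi).apply_eq_iff_eq (x := QuotientGroup.mk ⟨a, ha⟩) (y := 1)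
    simpa [mem_subgroupOf] using this

theorem exists_ker {M S Q : Subgroup G} (hS : SylowIn 2 S M) (hQ : Q ≤ S) (hc : ⁅S, S⁆ ≤ Q)
    (h : ∀ a ∈ S, ∀ g ∈ M, g * a * g⁻¹ ∈ S → g * a * g⁻¹ * a⁻¹ ∈ Q) :
    ∃ K : Subgroup G, K ⊴ M ∧ (∀ g ∈ M, Odd (orderOf g) → g ∈ K) ∧ K ⊓ S = Q := by
  obtain ⟨S, rfl⟩ := lift_le hS.le
  obtain ⟨Q, rfl⟩ := lift_le (hQ.trans hS.le)
  have inj := M.subtype_injective
  obtain ⟨K, h1, h2, h3⟩ := exists_ker_top (S := S) (Q := Q) (pHall_top.2 (pHall_map_subtype.1 hS))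
    ((map_le_map_iff_of_injective inj).1 hQ) ((map_le_map_iff_of_injective inj).1 (by rwa [map_commutator]))
  refine ⟨_, normal_map_subtype h1, fun g hg ho => ⟨⟨g, hg⟩, h2 _ (by rwa [← orderOf_coe]), rfl⟩, ?_⟩
  rw [← map_inf _ _ _ inj]
  congr 1
  ext a
  have := fun ha => h3 a ha fun k g hg => (mem_map_iff_mem inj).1
    (h _ ⟨_, pow_mem ha k, rfl⟩ g g.2 ⟨_, hg, rfl⟩)
  exact ⟨fun ⟨a1, a2⟩ => (this a2).1 a1, fun a1 =>
    have a2 := (map_le_map_iff_of_injective inj).1 hQ a1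
    ⟨(this a2).2 a1, a2⟩⟩

theorem burn_fus {A M : Subgroup G} (hS : SylowIn 2 A M) (hA : A ≤ C[A]) {a g : G} (ha : a ∈ A) (hg : g ∈ M)
    (hb : g * a * g⁻¹ ∈ A) : ∃ n ∈ M ⊓ N[A], n * a * n⁻¹ = g * a * g⁻¹ := by
  have := Nat.fact_prime_two
  have h1 : SylowIn 2 A (M ⊓ C1[g * a * g⁻¹]) := pHall_subl (le_inf hS.le (le_cent1_iff.2 (hA hb))) inf_le_left hS
  have h2 : SylowIn 2 (cj g A) (M ⊓ C1[g * a * g⁻¹]) := pHall_subl (le_inf (cj_le_of_mem hg hS.le) (by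
    rw [C1_conj]; exact cj_mono g (le_cent1_iff.2 (hA ha)))) inf_le_left (pHallJsub hg hS)
  obtain ⟨c, hc, e⟩ := Sylow_trans h2 h1
  refine ⟨c * g, ⟨mul_mem hc.1 hg, mem_norm.2 (by rw [cj_mul, ← e])⟩, ?_⟩
  have := mem_cent1.1 hc.2
  calc _ = c * (g * a * g⁻¹) * c⁻¹ := by group
    _ = _ := by rw [this]; group

theorem comm_idx2 {E A X : Subgroup G} (hi : E.relIndex A = 2) (hE : X ≤ N[E]) (hA : X ≤ N[A]) : ⁅A, X⁆ ≤ E := by
  rw [commGC]
  refine commutator_le.2 fun g hg a ha => ?_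
  rw [commutatorElement_def, Invol.mul_mem_iff_of_relIndex_two hi (conj_mem_of_norm (hA hg) ha) (inv_mem ha),
    inv_mem_iff, conj_mem_iff_of_norm (hE hg)]

theorem ncard_cls (H : Subgroup G) (x : G) : ((fun g => g * x * g⁻¹) '' (H : Set G)).ncard = C1[x].relIndex H := by
  letI : MulAction H G := MulAction.compHom G (MulAut.conj.comp H.subtype)
  have h1 := MulAction.index_stabilizer H x
  have h2 : MulAction.stabilizer H x = C1[x].subgroupOf H := Subgroup.ext fun g => by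
    rw [mem_subgroupOf, mem_cent1, ← mul_inv_eq_iff_eq_mul]; rfl
  rw [relIndex, ← h2, h1]
  congr 1
  ext y
  exact ⟨fun ⟨g, hg, e⟩ => ⟨⟨g, hg⟩, e⟩, fun ⟨g, e⟩ => ⟨g, g.2, e⟩⟩

theorem dvd_ncard {E : Subgroup G} {Ω : Set G} (h : ∀ w ∈ Ω, ∀ e ∈ E, w * e ∈ Ω) : #E ∣ Ω.ncard := by
  have : Ω = QuotientGroup.mk ⁻¹' (QuotientGroup.mk (s := E) '' Ω) := by
    refine (Set.subset_preimage_image _ _).antisymm fun y ⟨w, hw, e⟩ => ?_
    simpa using h w hw _ (QuotientGroup.eq.1 e)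
  rw [this, ← Nat.card_coe_set_eq, QuotientGroup.card_preimage_mk]
  exact dvd_mul_right _ _

theorem abelem_of {A : Subgroup G} (h : ∀ a ∈ A, a * a = 1) : Abelem 2 A :=
  abelemP.2 ⟨abelian_of_cent (le_cent_iff.2 fun a ha b hb => by
    have h1 := h _ (mul_mem ha hb)
    rw [← inv_eq_iff_mul_eq_one, mul_inv_rev, inv_eq_of_mul_eq_one_right (h a ha),
      inv_eq_of_mul_eq_one_right (h b hb)] at h1
    exact h1.symm), fun a ha => by rw [pow_two, h a ha]⟩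

theorem exists_not_mem {A B : Subgroup G} (h : #B < #A) : ∃ a ∈ A, a ∉ B := by
  by_contra hc
  push Not at hc
  exact absurd (card_le_card hc) (by omega)

namespace Fr
variable {V A B U S : Subgroup G} (F : Fr V A B U)
include F

theorem VA : V ≤ A := F.inf ▸ inf_le_left
theorem AU : A ≤ U := F.sup ▸ le_sup_left
theorem VU : V ≤ U := F.VA.trans F.AU
theorem ab : Abelem 2 A := abelem_of F.eA
theorem abV : Abelem 2 V := abelemS F.VA F.ab
theorem pU : IsPGroup 2 U := have := Nat.fact_prime_two; pgroup_of_card (k := 6) F.cU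
theorem UnA : U ≤ N[A] := le_norm_iff.2 fun u hu a ha => by
  simpa using mul_mem (F.VA (F.com u hu a (F.AU ha))) ha
theorem UcV : U ≤ C[V] := F.sup ▸ sup_le (centsS F.VA F.ab.cent) (centsS F.symm.VA F.symm.ab.cent)
theorem ne : A ≠ B := fun e => by
  have := F.inf; rw [← e, inf_idem] at this
  have h1 := F.cA; rw [this, F.cV] at h1; omega
theorem ncyc : ¬ IsCyclic V := fun h => by
  have := cyclic_abelem_card_dvd F.abV h; rw [F.cV] at this; omega

variable (hS : IsPGroup 2 S) (hU : U ≤ S)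
include hS hU

theorem ext' {g : G} (hg : g ∈ S) (h : g ∉ U) : ∃ z, Ext V A B U S z := F.ext S hS (hU.lt_of_ne fun e => h (e ▸ hg))

theorem cenS {x g : G} (hx : x ∈ A) (hV : x ∉ V) (hg : g ∈ S) (hc : Commute g x) : g ∈ A := by
  by_cases h : g ∈ U
  · exact F.cenA x hx hV g h hc
  · obtain ⟨z, E⟩ := F.ext' hS hU hg h
    refine absurd (F.inf ▸ (⟨hx, ?_⟩ : x ∈ A ⊓ B)) hV
    have := conj_mem_cj g hx
    rwa [(E.swap g hg h).1, hc.eq, mul_inv_cancel_right] at this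

theorem perm {g : G} (hg : g ∈ S) : cj g A = A ∧ cj g B = B ∨ cj g A = B ∧ cj g B = A := by
  by_cases h : g ∈ U
  · exact .inl ⟨cj_of_norm (F.UnA h), cj_of_norm (F.symm.UnA h)⟩
  · obtain ⟨z, E⟩ := F.ext' hS hU hg h
    exact .inr (E.swap g hg h)

theorem SnV : S ≤ N[V] := fun g hg => mem_norm.2 (by
  rw [← F.inf, cj_inf]
  rcases F.perm hS hU hg with ⟨h1, h2⟩ | ⟨h1, h2⟩ <;> rw [h1, h2]
  exact inf_comm _ _)

theorem SnU : S ≤ N[U] := fun g hg => mem_norm.2 (by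
  rw [← F.sup, cj_sup]
  rcases F.perm hS hU hg with ⟨h1, h2⟩ | ⟨h1, h2⟩ <;> rw [h1, h2]
  exact sup_comm _ _)

theorem sqS {r : G} (hr : r ∈ S) (h4 : r * r * (r * r) = 1) : r * r ∈ V := by
  by_cases h : r ∈ U
  · exact F.sq r h
  · obtain ⟨z, E⟩ := F.ext' hS hU hr h
    exact E.sq r hr h4

theorem cardS : #S ≤ 128 := by
  rcases hU.eq_or_lt with h | h
  · rw [← h, F.cU]; omega
  · obtain ⟨z, E⟩ := F.ext S hS h
    exact E.cS.le

theorem e16 {E : Subgroup G} (hE : E ≤ S) (ab : Abelem 2 E) (c : #E = 16) : E = A ∨ E = B := by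
  have h1 := card_sup_mul_inf (.inl (hE.trans (F.SnU hS hU)))
  have h2 := (card_le_card (sup_le hE hU)).trans (F.cardS hS hU)
  rw [c, F.cU] at h1
  obtain ⟨x, ⟨hx, hxU⟩, hV⟩ := exists_not_mem (A := E ⊓ U) (B := V) (by
    rw [F.cV]; by_contra h; push Not at h; nlinarith)
  refine (F.inv x hxU (by rw [← pow_two, ab.pow hx])).imp (fun h => ?_) fun h => ?_
  · exact eq_of_card_le (fun e he => F.cenS hS hU h hV (hE he) (le_cent_iff.1 ab.cent e he x hx)) (by rw [c, F.cA])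
  · exact eq_of_card_le (fun e he => F.symm.cenS hS hU h hV (hE he) (le_cent_iff.1 ab.cent e he x hx)) (by rw [c, F.cB])

theorem cjA {g : G} (h : cj g A ≤ S) : cj g A = A ∨ cj g A = B :=
  F.e16 hS hU h (abelemJ g F.ab) (by rw [card_cj, F.cA])

omit hS hU

theorem sylN : SylowIn 2 U N[A] :=
  have := Nat.fact_prime_two
  max_pgroup_Sylow F.UnA F.pU fun Q hQ h1 h2 => le_antisymm (fun g hg => by_contra fun h => by
    obtain ⟨z, E⟩ := F.ext' hQ h1 hg h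
    exact F.ne ((cj_of_norm (h2 hg)).symm.trans (E.swap g hg h).1)) h1

theorem sylA {x : G} (hx : x ∈ A) (nf : ∀ g, g * x * g⁻¹ ∉ V) : SylowIn 2 A C1[x] := by
  have := Nat.fact_prime_two
  refine max_pgroup_Sylow (le_cent1_iff.2 (F.ab.cent hx)) F.ab.pg fun Q hQ h1 h2 => le_antisymm ?_ h1
  obtain ⟨S, hS, hU⟩ := Sylow_superset le_top F.pU
  obtain ⟨g, -, hg⟩ := Sylow_Jsub hS le_top hQ
  have hc : ∀ q ∈ Q, Commute (g * q * g⁻¹) (g * x * g⁻¹) := fun q hq =>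
    (Commute.map (mem_cent1.1 (h2 hq) : Commute q x) (MulAut.conj g) :)
  have hx' := conj_mem_cj g hx
  intro q hq
  rw [← conj_mem_cj_iff (g := g)]
  rcases F.cjA hS.pg hU ((cj_mono g h1).trans hg) with e | e <;> rw [e] at hx' ⊢
  · exact F.cenS hS.pg hU hx' (nf g) (hg (conj_mem_cj g hq)) (hc q hq)
  · exact F.symm.cenS hS.pg hU hx' (nf g) (hg (conj_mem_cj g hq)) (hc q hq)

theorem normV {x : G} (hx : x ∈ A) (nf : ∀ g, g * x * g⁻¹ ∉ V) : N[A] ≤ N[V] := by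
  have := Nat.fact_prime_two
  intro g hg
  by_contra hn
  set Ω := (fun g => g * x * g⁻¹) '' (N[A] : Set G) with hΩ
  have c1 : ∀ w ∈ Ω, ∀ v ∈ V, w * v ∈ Ω := by
    rintro - ⟨n, hn, rfl⟩ v hv
    obtain ⟨b, hb, e⟩ := F.mov _ (F.AU (conj_mem_of_norm hn hx)) (nf n) v hv
    exact ⟨b * n, mul_mem (F.UnA hb) hn, by rw [← e]; group⟩
  have c2 : ∀ h ∈ N[A], ∀ w ∈ Ω, h * w * h⁻¹ ∈ Ω := by
    rintro h hh - ⟨n, hn, rfl⟩
    exact ⟨h * n, mul_mem hh hn, by group⟩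
  have hgA : cj g V ≤ A := cj_le_of_norm hg F.VA
  have c3 : #(V ⊔ cj g V) ∣ Ω.ncard := dvd_ncard fun w hw e he => by
    obtain ⟨v, hv, -, ⟨v', hv', rfl⟩, rfl⟩ := (mem_sup_normr (F.VA.trans (sub_abelian_norm F.ab.abelian hgA))).1 he
    have := c2 g hg _ (c1 _ (c2 g⁻¹ (inv_mem hg) _ (c1 w hw v hv)) v' hv')
    convert this using 1
    simp [mul_assoc]
  have c4 : 8 ∣ #(V ⊔ cj g V) := by
    have d1 := cardSg (sup_le F.VA hgA)
    have d2 := proper_card (show V < V ⊔ cj g V from left_lt_sup.2 fun h => hn (mem_norm_of_cj_le h))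
    rw [F.cA] at d1
    rw [F.cV] at d2
    have := Nat.le_of_dvd (by omega) d1
    interval_cases #(V ⊔ cj g V) <;> omega
  have c5 := card_inf_mul_relIndex C1[x] N[A]
  rw [← ncard_cls] at c5
  have c6 := cardSg (le_inf (le_cent1_iff.2 (F.ab.cent hx)) (normG A))
  have c7 := card_mul_relIndex F.UnA
  have c8 := F.sylN.not_dvd
  rw [F.cA] at c6
  rw [F.cU] at c7
  have := c5 ▸ mul_dvd_mul c6 (c4.trans c3)
  omega

end Fr

end Cfsg.Agent.HJS
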