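import Cfsg.Agent.HJS.G2
import Cfsg.Agent.Block.ZStar

/-! The centraliser of an involution of `A` not fused into `V` (helper12). -/

set_option autoImplicit false
set_option linter.unusedSectionVars false

namespace Cfsg.Agent.HJS

open Subgroup Cfsg.Agent.BG

variable {G : Type*} [Group G] [Finite G]

theorem odd_mem_sd {M A : Subgroup G} (h : Sdprod (Op' 2 M) A M) (hA : IsPGroup 2 A) {g : G} (hg : g ∈ M)
    (ho : Odd (orderOf g)) : g ∈ Op' 2 M :=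
  have := Nat.fact_prime_two
  mem_normal_Hall (pHall_of_compl h.compl (pcore_pgroup _ _) (by simpa using hA.pi)) h.normal hg (pnat_odd.2 ho)

theorem odd_elt {X : Subgroup G} (h : Odd #X) {g : G} (hg : g ∈ X) : Odd (orderOf g) :=
  h.of_dvd_nat (orderOf_dvd_cardG hg)

theorem pg_zp {v : G} (h : v * v = 1) : IsPGroup 2 (zpowers v) := (cycle_abelem (p := 2) (by rw [pow_two, h])).pg

theorem ord2 {v : G} (h : v * v = 1) (h1 : v ≠ 1) : orderOf v = 2 :=
  have := Nat.fact_prime_two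
  orderOf_eq_prime (by rw [pow_two, h]) h1

structure Lx (V A : Subgroup G) (x : G) (W L : Subgroup G) : Prop where
  xW : x ∈ W
  WA : W ≤ A
  inf : W ⊓ V = ⊥
  sup : W ⊔ V = A
  cen : ∀ w ∈ W, ∀ g ∈ C1[x], w * g * w⁻¹ * g⁻¹ ∈ Oc x
  Ln : L ⊴ C1[x]
  Lo : ∀ g ∈ C1[x], Odd (orderOf g) → g ∈ L
  LA : L ⊓ A = V
  nil : ∀ v ∈ V, v ≠ 1 → ∀ g ∈ C1[x] ⊓ C1[v], Odd (orderOf g) → g ∈ Op' 2 (C1[x] ⊓ C1[v])

namespace Fr
variable {V A B U : Subgroup G} (F : Fr V A B U)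
include F

theorem eV {v : G} (hv : v ∈ V) : v * v = 1 := F.eA v (F.VA hv)

theorem fixV {Y : Subgroup G} (ho : Odd #Y) (hn : Y ≤ N[V]) {v : G} (hv : v ∈ V) (v1 : v ≠ 1) (hc : Y ≤ C1[v]) :
    Y ≤ C[V] := by
  have h := card_mul_relIndex (zpowers_le.2 hv)
  rw [Nat.card_zpowers, ord2 (F.eV hv) v1, F.cV] at h
  exact stable_factor_cent (C_zpowers v ▸ hc) (comm_idx2 (by omega) (hc.trans (cent1_le_norm_zpowers v)) hn)
    (cop2 ho (pg_zp (F.eV hv))).symm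

theorem loc {x : G} (hx : x ∈ A) (nf : ∀ g, g * x * g⁻¹ ∉ V) :
    Sdprod (Oc x) A C1[x] ∨ ∃ W L, Lx V A x W L := by
  have := Nat.fact_prime_two
  have hS := F.sylA hx nf
  have cA := F.ab.cent
  have xV : x ∉ V := by simpa using nf 1
  have AN : A ≤ C1[x] ⊓ N[A] := le_inf hS.le (normG A)
  obtain ⟨X, sd, hX⟩ := sdprod_Hall_exists (pHall_subl AN inf_le_left hS) ⟨AN, inf_le_right⟩
  have oX : Odd #X := pnat_odd.1 hX.pi
  have XA : X ≤ N[A] := sd.norm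
  have XV := XA.trans (F.normV hx nf)
  have Xx : X ≤ C1[x] := sd.ler.trans inf_le_left
  have cp := (cop2 oX F.ab.pg).symm
  have nV : zpowers x ≤ N[V] := (zpowers_le.2 (F.AU hx)).trans (cents_norm F.UcV)
  have hE : V ⊔ zpowers x ≤ A := sup_le F.VA (zpowers_le.2 hx)
  have x2 := ord2 (F.eA x hx) fun e => xV (e ▸ one_mem _)
  have cE := card_sup_TI (.inr nV) (by
    rw [inf_comm]; exact prime_TI (by rw [Nat.card_zpowers, x2]; exact Nat.prime_two) (mt zpowers_le.1 xV))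
  have iE := card_mul_relIndex hE
  rw [cE, Nat.card_zpowers, x2, F.cV, F.cA] at iE
  have h1 : ⁅A, X⁆ ≤ V := by
    rw [← coprime_commGid XA cp]
    refine (commSg X (comm_idx2 (E := V ⊔ zpowers x) (by omega)
      (normsY XV (Xx.trans (cent1_le_norm_zpowers x))) XA)).trans ?_
    rw [comm_sup_cent (centsC.1 (C_zpowers x ▸ Xx)) nV]
    exact commg_subl XV
  by_cases hW : A ⊓ C[X] ⊓ V = ⊥
  swap
  · obtain ⟨v, ⟨hv, hvV⟩, v1⟩ := trivgPn.1 hW
    refine .inl (Burnside_normal_complement hS (sd.sup ▸ sup_le cA (stable_factor_cent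
      (F.fixV oX XV hvV v1 (le_cent1_iff.2 hv.2)) h1 (cop2 oX F.abV.pg).symm)))
  have sup : A ⊓ C[X] ⊔ V = A := le_antisymm (sup_le inf_le_left F.VA) ((coprime_abelian_cent_dprod XA cp
    F.ab.abelian).sup.ge.trans (sup_le (le_sup_of_le_right h1) le_sup_left))
  have cW : C1[x] ⊓ N[A] ≤ C[A ⊓ C[X]] := sd.sup ▸ sup_le (centsS inf_le_left cA) (centsC.1 inf_le_right)
  obtain ⟨L, L1, L2, L3⟩ := exists_ker hS F.VA (by rw [der1_eq_bot.2 F.ab.abelian]; exact bot_le)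
    fun a ha g hg hb => by
      obtain ⟨n, hn, e⟩ := burn_fus hS cA ha hg hb
      obtain ⟨c, hc, y, hy, rfl⟩ := sd.mem hn
      have := h1 (commGC X A ▸ commutator_mem_commutator hy ha)
      rw [← e, show c * y * a * (c * y)⁻¹ = c * (y * a * y⁻¹) * c⁻¹ by group,
        conj_eq_of_cent (cA hc) (conj_mem_of_norm (XA hy) ha)]
      exact this
  refine .inr ⟨A ⊓ C[X], L, ⟨hx, le_cent1_iff.1 Xx⟩, inf_le_left, hW, sup, fun w hw g hg => ?_, L1, L2, L3,
    fun v hv v1 g hg ho => odd_mem_sd (Burnside_normal_complement (pHall_subl (le_inf hS.le (le_cent1_iff.2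
      (cA (F.VA hv)))) inf_le_left hS) fun n hn => ?_) F.ab.pg hg ho⟩
  · by_cases w1 : w = 1
    · simp [w1]
    have fx : ∀ g ∈ C1[x], g * w * g⁻¹ ∈ A → g * w * g⁻¹ = w := fun g hg hb => by
      obtain ⟨n, hn, e⟩ := burn_fus hS cA hw.1 hg hb
      rw [← e, conj_eq_of_cent (cW hn) hw]
    have := Block.zstar (G := C1[x]) (u := ⟨w, hS.le hw.1⟩) ⟨by
      rw [← orderOf_coe]; exact ord2 (F.eA w hw.1) w1, fun g hc => Subtype.ext ?_⟩ ⟨g, hg⟩
    · rw [Oc, Op'_eq]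
      exact ⟨_, this, rfl⟩
    have hc' : Commute w (g * w * g⁻¹) := congrArg Subtype.val hc
    have w2 := F.eA w hw.1
    have w2' : (g : G) * w * g⁻¹ * (g * w * g⁻¹) = 1 := by simp [mul_assoc, ← mul_assoc w, w2]
    have m1 := hS.le hw.1
    have m2 := mul_mem (mul_mem g.2 m1) (inv_mem g.2)
    obtain ⟨h, hh, e⟩ := Sylow_Jsub hS (sup_le (zpowers_le.2 m1) (zpowers_le.2 m2)) (pgroup_sup
      (.inl ((zpowers_le.2 (mem_cent1.2 hc')).trans (cent1_le_norm_zpowers _))) (pg_zp w2) (pg_zp w2'))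
    have e1 := fx h hh (e (conj_mem_cj h (mem_sup_left (mem_zpowers _))))
    have e2 := fx (h * g) (mul_mem hh g.2) (by
      simpa [mul_assoc] using e (conj_mem_cj h (mem_sup_right (mem_zpowers _))))
    change (g : G) * w * g⁻¹ = w
    rw [← cinj (g := h), e1]
    simpa only [mul_assoc, mul_inv_rev, coe_inv] using e2
  · obtain ⟨c, hc, y, hy, rfl⟩ := sd.mem (⟨hn.1.1, hn.2⟩ : n ∈ C1[x] ⊓ N[A])
    refine mul_mem (cA hc) ?_
    have hyv : y ∈ C1[v] := (mul_mem_cancel_left (le_cent1_iff.2 (cA (F.VA hv)) hc)).1 hn.1.2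
    rw [← sup, cent_sup]
    exact ⟨cW (sd.ler hy), F.fixV (oddSg (zpowers_le.2 hy) oX) ((zpowers_le.2 hy).trans XV) hv v1
      (zpowers_le.2 hyv) (mem_zpowers y)⟩

end Fr

end Cfsg.Agent.HJS
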