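import Cfsg.Agent.HJS.G3
import Mathlib.GroupTheory.FixedPointFree

/-! Elimination of the unbalanced case (helper12). -/

set_option autoImplicit false
set_option linter.unusedSectionVars false

namespace Cfsg.Agent.HJS

open Subgroup Cfsg.Agent.BG

variable {G : Type*} [Group G] [Finite G]

theorem inv_of_fpf {P : Subgroup G} {j : G} (hj : j * j = 1) (hn : j ∈ N[P]) (h : P ⊓ C1[j] = ⊥) {p : G}
    (hp : p ∈ P) : j * p * j⁻¹ = p⁻¹ := by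
  have := MonoidHom.FixedPointFree.coe_eq_inv_of_involutive (φ := conjAut P ⟨j, hn⟩) (fun g hg => Subtype.ext
    (mem_bot.1 (h.le ⟨g.2, mem_cent1.2 (mul_inv_eq_iff_eq_mul.1 (congrArg Subtype.val hg)).symm⟩))) fun g =>
      Subtype.ext (by simp [conjAut_apply, ← mul_assoc, hj, inv_eq_of_mul_eq_one_right hj]; simp [mul_assoc, hj])
  exact congrArg Subtype.val (congrFun this ⟨p, hp⟩)

theorem comm_of_inv {P : Subgroup G} {j : G} (h : ∀ p ∈ P, j * p * j⁻¹ = p⁻¹) : P ≤ C[P] :=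
  le_cent_iff.2 fun a ha b hb => by
    have := h _ (mul_mem ha hb)
    rw [cmul, h a ha, h b hb, ← mul_inv_rev, inv_inj] at this
    exact this.symm

theorem eq_one_of_sq {u : G} (ho : Odd (orderOf u)) (h : u * u = 1) : u = 1 :=
  orderOf_eq_one_iff.1 (Nat.eq_one_of_dvd_coprimes (Nat.coprime_two_right.2 ho) dvd_rfl
    (orderOf_dvd_of_pow_eq_one (by rw [pow_two, h])))

theorem odd_pg {r : ℕ} [Fact r.Prime] (r2 : r ≠ 2) {P : Subgroup G} (h : IsPGroup r P) : Odd #P :=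
  pnat_odd.1 (p'group_of_ne h r2)

/-- The unbalanced alternative. -/
structure Bd (V N : Subgroup G) (r : ℕ) : Prop where
  nm : N.Normal
  VN : V ≤ N
  a : ∀ u ∈ N, u ≠ 1 → Odd (orderOf u) → ∀ g ∈ N, ∀ h ∈ N, Commute g u → Commute h u → Commute g h
  b : ∀ u ∈ N, u ≠ 1 → Odd (orderOf u) → ∀ a ∈ V, ∀ b ∈ V, a ≠ 1 → b ≠ 1 → Commute a u → Commute b u → a = b
  r2 : r ≠ 2
  ex : ∀ v ∈ V, v ≠ 1 → ∃ u ∈ N, u ≠ 1 ∧ u ^ r = 1 ∧ Commute u v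

variable {r : ℕ} [Fact r.Prime]

theorem Bd.comm {V N R : Subgroup G} (D : Bd V N r) (hR : IsPGroup r R) {u u' : G} (hu : u ∈ R ⊓ N) (hu' : u' ∈ R ⊓ N)
    (u1 : u ≠ 1) : Commute u u' := by
  have hp : IsPGroup r (R ⊓ N : Subgroup G) := IsPGroup.sub hR inf_le_left
  obtain ⟨n, hn, n1⟩ := trivgPn.1 (center_nil_ne_bot (pgroup_nil hp) (trivgPn.2 ⟨u, hu, u1⟩))
  exact D.a n hn.1.2 n1 (odd_elt (odd_pg D.r2 hp) hn.1) u hu.2 u' hu'.2 (mem_cent.1 hn.2 u hu) (mem_cent.1 hn.2 u' hu')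

theorem Bd.c1 {V N R : Subgroup G} (D : Bd V N r) (hR : IsPGroup r R) {u u' a b : G} (hu : u ∈ R ⊓ N) (hu' : u' ∈ R ⊓ N)
    (u1 : u ≠ 1) (u1' : u' ≠ 1) (ha : a ∈ V) (hb : b ∈ V) (a1 : a ≠ 1) (b1 : b ≠ 1) (h1 : Commute a u)
    (h2 : Commute b u') : a = b :=
  have o := odd_pg D.r2 hR
  D.b u' hu'.2 u1' (odd_elt o hu'.1) a ha b hb a1 b1
    (D.a u hu.2 u1 (odd_elt o hu.1) a (D.VN ha) u' hu'.2 h1 (D.comm hR hu hu' u1).symm) h2

theorem Bd.c2 {V N X : Subgroup G} (D : Bd V N r) (oX : Odd #X) {u u' j : G} (hu : u ∈ X ⊓ N) (hu' : u' ∈ X ⊓ N)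
    (u1 : u ≠ 1) (u1' : u' ≠ 1) (pu : PiElt {r} u) (pu' : PiElt {r} u') (hj : j ∈ N) (j2 : j * j = 1) (hn : j ∈ N[X])
    (h1 : j * u * j⁻¹ = u⁻¹) (h2 : Commute j u') : False := by
  have := D.nm
  have o : Odd #(X ⊓ N) := oddSg inf_le_left oX
  have nJ : zpowers j ≤ N[X ⊓ N] := normsI (zpowers_le.2 hn) (norm_of_normal _ _)
  have cp := cop2 o (pg_zp j2)
  have sl : Group.IsSolvable (zpowers j) ∨ Group.IsSolvable (X ⊓ N : Subgroup G) := .inl (sol2 (pg_zp j2))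
  obtain ⟨R, hR, nR, uR⟩ := coprime_Sylow_subset nJ cp sl (zpowers_le.2 hu) (p_elt_zpowers.2 pu).pg
    (zpowers_le.2 (mem_norm.2 (by rw [cj_zpowers, h1, zpowers_inv])))
  obtain ⟨R', hR', nR', uR'⟩ := coprime_Sylow_subset nJ cp sl (zpowers_le.2 hu') (p_elt_zpowers.2 pu').pg
    ((zpowers_le.2 (mem_cent1.2 h2)).trans (cent1_le_norm_zpowers _))
  obtain ⟨c, hc, e⟩ := coprime_Sylow_trans nJ cp sl hR' nR' hR nR
  have m1 : u ∈ R := uR (mem_zpowers u)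
  have m2 : c * u' * c⁻¹ ∈ R := e ▸ conj_mem_cj c (uR' (mem_zpowers u'))
  have cj : Commute j c := mem_cent.1 hc.2 j (mem_zpowers j)
  have h3 := D.a _ (hR.le m2).2 (by simpa using u1') (odd_elt o (hR.le m2)) j hj u hu.2
    ((cj.mul_right h2).mul_right cj.inv_right) (D.comm hR.pg ⟨m1, hu.2⟩ ⟨m2, (hR.le m2).2⟩ u1)
  rw [h3.eq, mul_inv_cancel_right] at h1
  exact u1 (eq_one_of_sq (odd_elt o hu) (mul_eq_one_iff_eq_inv.2 h1))

/-- Transitivity on maximal `U`-invariant `r`-subgroups with nontrivial intersection. -/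
theorem trans_max {U : Subgroup G} (pU : IsPGroup 2 U)
    (star : ∀ D : Subgroup G, D ≠ ⊥ → IsPGroup r D → U ≤ N[D] → ∀ X ≤ N[D], IsPGroup r X → U ≤ N[X] → X ≤ Op' 2 N[D])
    (n : ℕ) : ∀ R1 R2 : Subgroup G, Maximal (fun R : Subgroup G => IsPGroup r R ∧ U ≤ N[R]) R1 →
      Maximal (fun R : Subgroup G => IsPGroup r R ∧ U ≤ N[R]) R2 → R1 ⊓ R2 ≠ ⊥ → Nat.card G - #(R1 ⊓ R2) = n →
      ∃ c ∈ C[U], R2 = cj c R1 := by
  induction n using Nat.strong_induction_on with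
  | _ n ih =>
  intro R1 R2 h1 h2 hD hn
  by_cases e : R1 = R2
  · exact ⟨1, one_mem _, by simp [e]⟩
  set D := R1 ⊓ R2
  have nD : U ≤ N[D] := normsI h1.1.2 h2.1.2
  have pD : IsPGroup r D := IsPGroup.sub h1.1.1 inf_le_left
  have nO : U ≤ N[Op' 2 N[D]] := norms_pcore _ (normsG nD)
  have cp := cop2 (odd_Op' N[D]) pU
  have key : ∀ R : Subgroup G, IsPGroup r R ∧ U ≤ N[R] → D < R →
      ∃ Q, SylowIn r Q (Op' 2 N[D]) ∧ U ≤ N[Q] ∧ D < R ⊓ Q := fun R hR lt => by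
    have hp : IsPGroup r (R ⊓ N[D] : Subgroup G) := IsPGroup.sub hR.1 inf_le_left
    have hn := normsI hR.2 (normsG nD)
    obtain ⟨Q, a, b, c⟩ := coprime_Sylow_subset nO cp (.inl (sol2 pU)) (star D hD pD nD _ inf_le_right hp hn) hp hn
    exact ⟨Q, a, b, (nilpotent_proper_norm (pgroup_nil hR.1) lt).trans_le (le_inf inf_le_left c)⟩
  obtain ⟨Q1, a1, b1, c1⟩ := key R1 h1.1 (inf_lt_left.2 fun h => e (h1.eq_of_le h2.1 h))
  obtain ⟨Q2, a2, b2, c2⟩ := key R2 h2.1 (inf_lt_right.2 fun h => e (h2.eq_of_le h1.1 h).symm)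
  obtain ⟨c, hc, ec⟩ := coprime_Sylow_trans nO cp (.inl (sol2 pU)) a1 b1 a2 b2
  obtain ⟨R3, q3, h3⟩ := (Set.toFinite {R : Subgroup G | IsPGroup r R ∧ U ≤ N[R]}).exists_le_maximal
    (a := Q1) ⟨a1.pg, b1⟩
  have cjm : ∀ c ∈ C[U], ∀ R : Subgroup G, IsPGroup r R ∧ U ≤ N[R] → IsPGroup r (cj c R) ∧ U ≤ N[cj c R] :=
    fun c hc R hR => ⟨IsPGroup.cj hR.1 c, by rw [N_cj, ← cj_of_cent hc]; exact cj_mono c hR.2⟩
  have h4 : Maximal (fun R : Subgroup G => IsPGroup r R ∧ U ≤ N[R]) (cj c R3) :=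
    ⟨cjm c hc.2 _ h3.1, fun R hR le => le_cj_iff.2 (h3.2 (cjm _ (inv_mem hc.2) R hR) (cj_le_iff.1 le))⟩
  have lt : ∀ X : Subgroup G, D < X → Nat.card G - #X < n := fun X h => by
    have := proper_card h
    have := card_le_card (le_top (a := X))
    rw [card_top] at this
    omega
  have l1 : D < R1 ⊓ R3 := c1.trans_le (inf_le_inf_left _ q3)
  have l2 : D < cj c R3 ⊓ R2 := c2.trans_le (by rw [inf_comm, ec]; exact inf_le_inf_right _ (cj_mono c q3))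
  obtain ⟨d1, m1, e1⟩ := ih _ (lt _ l1) R1 R3 h1 h3 (bot_le.trans_lt l1).ne' rfl
  obtain ⟨d2, m2, e2⟩ := ih _ (lt _ l2) _ R2 h4 h2 (bot_le.trans_lt l2).ne' rfl
  exact ⟨d2 * (c * d1), mul_mem m2 (mul_mem hc.2 m1), by rw [cj_mul, cj_mul, ← e1, ← e2]⟩

end Cfsg.Agent.HJS
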