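import Cfsg.Agent.HJS.G4

/-! Elimination of the unbalanced case, II (helper12). -/

set_option autoImplicit false
set_option linter.unusedSectionVars false

namespace Cfsg.Agent.HJS

open Subgroup Cfsg.Agent.BG

variable {G Z : Type*} [Group G] [Finite G] [Group Z] [Finite Z] {V A B U W L : Subgroup G} {x : G} {r : ℕ}
  [Fact r.Prime] {π : L →* Z} {N : Subgroup Z}

theorem Fr.AcV (F : Fr V A B U) {v : G} (hv : v ∈ V) : A ≤ C1[v] := le_cent1_iff.2 (F.ab.cent (F.VA hv))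

theorem Fr.le_Δ (F : Fr V A B U) (C : Lc V A B) {X : Subgroup G} (o : Odd #X) (n : A ≤ N[X]) (h : X ≤ C[V]) :
    X ≤ Op' 2 C[V] := by
  obtain ⟨v, hv, v1⟩ := trivgPn.1 (show V ≠ ⊥ by rintro rfl; exact F.ncyc cyclic_bot)
  exact (le_inf (C.oA v hv v1 X (h.trans (cent_le_cent1 hv)) o n) h).trans (pcore_setI _ (cent_le_cent1 hv))

theorem Fr.Δ_le (F : Fr V A B U) (C : Lc V A B) {v : G} (hv : v ∈ V) (v1 : v ≠ 1) : Op' 2 C[V] ≤ Oc v :=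
  C.oA v hv v1 _ ((pcore_sub _ _).trans (cent_le_cent1 hv)) (odd_Op' _) (norms_pcore _ (normsG (F.AU.trans F.UcV)))

theorem Fr.two (F : Fr V A B U) {a b : G} (ha : a ∈ V) (hb : b ∈ V) (a1 : a ≠ 1) (b1 : b ≠ 1) (ab : a ≠ b) :
    C1[a] ⊓ C1[b] ≤ C[V] := by
  have h1 : zpowers a ⊔ zpowers b = V := by
    refine eq_of_card_le (sup_le (zpowers_le.2 ha) (zpowers_le.2 hb)) ?_
    rw [card_sup_TI (.inl ((zpowers_le.2 (F.AcV hb (F.VA ha))).trans (cent1_le_norm_zpowers _))) (prime_TI (by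
      rw [Nat.card_zpowers, ord2 (F.eV ha) a1]; exact Nat.prime_two) fun h => ?_), Nat.card_zpowers, Nat.card_zpowers,
      ord2 (F.eV ha) a1, ord2 (F.eV hb) b1, F.cV]
    exact ((Invol.mem_zpowers_invol (F.eV hb)).1 (h (mem_zpowers a))).elim a1 ab
  rw [← h1, cent_sup, C_zpowers, C_zpowers]

theorem Lx.OL (X : Lx V A x W L) : Oc x ≤ L := fun g hg => X.Lo g (pcore_sub _ _ hg) (odd_elt (odd_Op' _) hg)
theorem Lx.VL (X : Lx V A x W L) : V ≤ L := X.LA ▸ inf_le_left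
theorem Lx.oddL (X : Lx V A x W L) {P : Subgroup G} (o : Odd #P) (h : P ≤ C1[x]) : P ≤ L :=
  fun g hg => X.Lo g (h hg) (odd_elt o hg)

section
variable (F : Fr V A B U) (C : Lc V A B) (hx : x ∈ A) (X : Lx V A x W L) (hπ : Function.Surjective π)
  (hk : mker π = Oc x) (D : Bd (mim π V) N r)
include F hk

theorem pi_ne {v : L} (hv : (v : G) ∈ A) (v1 : (v : G) ≠ 1) : π v ≠ 1 := fun h =>
  v1 (mem_bot.1 ((coprime_TI (cop2 (odd_Op' C1[x]) F.ab.pg)).le ⟨hk.le (mem_mker.2 ⟨v.2, h⟩), hv⟩))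

include C hx X hπ D

theorem lift {Γ P : Subgroup G} (h1 : Γ ≤ C1[x]) (h2 : Oc x ⊔ Γ = C1[x]) (hV : V ≤ Γ) {v : G} (hv : v ∈ V) (v1 : v ≠ 1)
    (hP : SylowIn r P (Oc v ⊓ Γ)) : ∃ u : L, (u : G) ∈ P ∧ π u ∈ N ∧ π u ≠ 1 := by
  have := D.nm
  let v' : L := ⟨v, X.VL hv⟩
  obtain ⟨u, hu, u1, ur, hc⟩ := D.ex (π v') (mem_mim_of v' hv) (pi_ne F hk (F.VA hv) v1)
  let f : (Γ ⊓ L : Subgroup G) →* Z := π.comp (inclusion inf_le_right)
  have kf : mker f ≤ Oc x := fun g hg => hk ▸ (by obtain ⟨h, e⟩ := mem_mker.1 hg; exact mem_mker.2 ⟨h.2, e⟩)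
  have sf : Function.Surjective f := fun z => by
    obtain ⟨l, rfl⟩ := hπ z
    obtain ⟨o, ho, g, hg, e⟩ := (mem_sup_norml (h1.trans (pcore_normal _ _).norm)).1 (h2.ge (X.Ln.le l.2))
    have gL : g ∈ L := (mul_mem_cancel_left (X.OL ho)).1 (e ▸ l.2)
    obtain ⟨h, e'⟩ := mem_mker.1 (hk.ge ho)
    exact ⟨⟨g, hg, gL⟩, by rw [show l = ⟨o, h⟩ * ⟨g, gL⟩ from Subtype.ext e, map_mul, e', one_mul]; rfl⟩
  have ok := oddSg kf (odd_Op' _)
  have pu : IsPGroup r (zpowers u) := (cycle_abelem ur).pg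
  have h3 := cover_cent ok (v := ⟨v, hV hv, X.VL hv⟩) sf (F.eV hv) (X := zpowers u) (zpowers_le.2 (mem_cent1.2 hc))
  obtain ⟨w, hw, e⟩ := mem_mim.1 (h3.ge (mem_zpowers u))
  have h4 := X.nil v hv v1 w ⟨h1 w.2.1, hw.2⟩ (odd_elt (odd_mpre ok (odd_pg D.r2 pu)) hw.1)
  have h5 := C.oA v hv v1 _ ((pcore_sub _ _).trans inf_le_right) (odd_Op' _)
    (norms_pcore _ (normsG (le_inf (le_cent1_iff.2 (F.ab.cent hx)) (F.AcV hv)))) h4
  have JL : Oc v ⊓ Γ ≤ L := X.oddL (oddSg inf_le_left (odd_Op' _)) (inf_le_right.trans h1)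
  obtain ⟨g, -, hg⟩ := Sylow_Jsub (morphim_pHall π JL hP)
    (zpowers_le.2 (e ▸ mem_mim_of (f := π) (A := Oc v ⊓ Γ) ⟨w, w.2.2⟩ ⟨h5, w.2.1⟩)) pu
  obtain ⟨y, hy, e'⟩ := mem_mim.1 (hg (conj_mem_cj g (mem_zpowers u)))
  exact ⟨y, hy, e' ▸ D.nm.conj_mem u hu g, by rw [e']; simpa using u1⟩

theorem bad1 (star : ∀ D : Subgroup G, D ≠ ⊥ → IsPGroup r D → U ≤ N[D] → ∀ X ≤ N[D], IsPGroup r X → U ≤ N[X] →
      X ≤ Op' 2 N[D]) (hr : r ∣ #(Op' 2 C[V])) : False := by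
  have sl : ∀ {K : Subgroup G}, Group.IsSolvable U ∨ Group.IsSolvable K := .inl (sol2 F.pU)
  have Uv : ∀ v ∈ V, U ≤ C1[v] := fun v hv => F.UcV.trans (cent_le_cent1 hv)
  have nO : ∀ v ∈ V, U ≤ N[Oc v] := fun v hv => norms_pcore _ (normsG (Uv v hv))
  obtain ⟨P0, s0, n0⟩ := coprime_Sylow_exists r (norms_pcore _ (normsG F.UcV)) (cop2 (odd_Op' C[V]) F.pU) sl
  have key : ∀ v ∈ V, v ≠ 1 → ∃ P R, SylowIn r P (Oc v) ∧ U ≤ N[P] ∧ P0 ≤ P ∧ P ≤ R ∧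
      Maximal (fun R : Subgroup G => IsPGroup r R ∧ U ≤ N[R]) R := fun v hv v1 => by
    obtain ⟨P, a, b, c⟩ := coprime_Sylow_subset (nO v hv) (cop2 (odd_Op' _) F.pU) sl (s0.le.trans (F.Δ_le C hv v1)) s0.pg n0
    obtain ⟨R, q, h⟩ := (Set.toFinite {R : Subgroup G | IsPGroup r R ∧ U ≤ N[R]}).exists_le_maximal (a := P) ⟨a.pg, b⟩
    exact ⟨P, R, a, b, c, q, h⟩
  obtain ⟨z, hz, z1⟩ := trivgPn.1 (show V ≠ ⊥ by rintro rfl; exact F.ncyc cyclic_bot)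
  obtain ⟨s, hs, sz⟩ := exists_not_mem (A := V) (B := zpowers z) (by rw [Nat.card_zpowers, ord2 (F.eV hz) z1, F.cV]; omega)
  have s1 : s ≠ 1 := fun e => sz (e ▸ one_mem _)
  obtain ⟨P1, R1, a1, b1, c1, d1, e1⟩ := key z hz z1
  obtain ⟨P2, R2, a2, b2, c2, d2, e2⟩ := key s hs s1
  obtain ⟨c, hc, e⟩ := trans_max F.pU star _ R2 R1 e2 e1 (fun h => Sylow_ne_bot s0 hr
    (le_bot_iff.1 ((le_inf (c2.trans d2) (c1.trans d1)).trans h.le))) rfl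
  have a3 : SylowIn r (cj c P2) (Oc s) :=
    pHallJnorm (norms_pcore _ (normsG (cent_le_cent1 (F.VU hs))) hc) a2
  have b3 : U ≤ N[cj c P2] := by rw [N_cj, ← cj_of_cent hc]; exact cj_mono c b2
  have k2 : ∀ v ∈ V, v ≠ 1 → ∀ P, SylowIn r P (Oc v) → U ≤ N[P] → P ≤ R1 →
      ∃ u ∈ mim π R1 ⊓ N, u ≠ 1 ∧ ∀ h, Commute (π ⟨v, h⟩) u := fun v hv v1 P a b d => by
    have xU := zpowers_le.2 (F.AU hx)
    have := coprime_Sylow_cent (xU.trans (nO v hv)) (cop2 (odd_Op' _) (pg_zp (F.eA x hx)))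
      (.inl (sol2 (pg_zp (F.eA x hx)))) a (xU.trans b)
    rw [C_zpowers] at this
    obtain ⟨u, h1, h2, h3⟩ := lift F C hx X hπ hk D le_rfl (sup_eq_right.2 (pcore_sub _ _)) (X.VL.trans X.Ln.le) hv v1 this
    refine ⟨π u, ⟨mem_mim_of u (d h1.1), h2⟩, h3, fun h => Commute.map (Subtype.ext ?_) π⟩
    exact (mem_cent1.1 (pcore_sub _ _ (a.le h1.1))).symm
  obtain ⟨u, m1, u1, h1⟩ := k2 z hz z1 P1 a1 b1 d1
  obtain ⟨u', m2, u2, h2⟩ := k2 s hs s1 _ a3 b3 (e ▸ cj_mono c d2)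
  have := D.c1 (IsPGroup.mim e1.1.1 π) m1 m2 u1 u2 (mem_mim_of ⟨z, X.VL hz⟩ hz) (mem_mim_of ⟨s, X.VL hs⟩ hs)
    (pi_ne F hk (F.VA hz) z1) (pi_ne F hk (F.VA hs) s1) (h1 _) (h2 _)
  refine pi_ne F hk (v := ⟨z, X.VL hz⟩⁻¹ * ⟨s, X.VL hs⟩) (F.VA (mul_mem (inv_mem hz) hs)) (fun e => sz ?_)
    (by rw [map_mul, map_inv, this, inv_mul_cancel])
  rw [← inv_mul_eq_one.1 (show z⁻¹ * s = 1 from e)]
  exact mem_zpowers z

theorem bad2 (hS : SylowIn 2 A C1[x]) (xV : x ∉ V) (hr : ¬ r ∣ #(Op' 2 C[V])) : False := by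
  have := Nat.fact_prime_two
  have sl : ∀ {K : Subgroup G}, Group.IsSolvable A ∨ Group.IsSolvable K := .inl (sol2 F.ab.pg)
  have NoR : ∀ Y : Subgroup G, Odd #Y → A ≤ N[Y] → ∀ m ∈ Y, m ∈ C[V] → PiElt {r} m → m = 1 := fun Y o n m h1 h2 h3 =>
    p_elt_eq_one h3 (mem_p_elt ((p'natE Fact.out).2 hr) (F.le_Δ C (oddSg inf_le_left o)
      (normsI n (normsG (F.AU.trans F.UcV))) inf_le_right ⟨h1, h2⟩))
  have nO : ∀ a ∈ A, A ≤ N[Oc a] := fun v hv => norms_pcore _ (normsG (le_cent1_iff.2 (F.ab.cent hv)))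
  have syl : ∀ Γ : Subgroup G, A ≤ Γ → Γ ≤ C1[x] → Oc x ⊔ Γ = C1[x] → ∀ v ∈ V, v ≠ 1 → ∃ P, SylowIn r P (Oc v ⊓ Γ) ∧
      A ≤ N[P] ∧ (∀ a ∈ V, a ≠ 1 → a ≠ v → ∀ p ∈ P, a * p * a⁻¹ = p⁻¹) ∧ ∃ u : L, (u : G) ∈ P ∧ π u ∈ N ∧ π u ≠ 1 :=
    fun Γ h0 h1 h2 v hv v1 => by
      obtain ⟨P, a, b⟩ := coprime_Sylow_exists r (normsI (nO v (F.VA hv)) (normsG h0))
        (cop2 (oddSg inf_le_left (odd_Op' _)) F.ab.pg) sl
      refine ⟨P, a, b, fun c hc c1 cv p hp => inv_of_fpf (F.eV hc) (b (F.VA hc)) ((eq_bot_iff_forall _).2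
        fun m hm => ?_) hp, lift F C hx X hπ hk D h1 h2 (F.VA.trans h0) hv v1 a⟩
      exact NoR P (odd_pg D.r2 a.pg) b m hm.1 (F.two hc hv c1 v1 cv ⟨hm.2, pcore_sub _ _ (a.le hm.1).1⟩)
        (mem_p_elt a.pi hm.1)
  -- `r` divides `#O(C(x))`
  have hrx : r ∣ #(Oc x) := by
    obtain ⟨s, hs, s1⟩ := trivgPn.1 (show V ≠ ⊥ by rintro rfl; exact F.ncyc cyclic_bot)
    obtain ⟨P, a, b, inv, u, hu, -, u1⟩ := syl _ hS.le le_rfl (sup_eq_right.2 (pcore_sub _ _)) s hs s1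
    have oP := odd_pg D.r2 a.pg
    have hPW : P ⊓ C[W] ≠ ⊥ := fun h => by
      have := coprime_cent_prod' (X.WA.trans b) (cop2 oP (IsPGroup.sub F.ab.pg X.WA)) (.inr (pgroup_sol a.pg))
      rw [h, sup_bot_eq, commGC] at this
      have h2 : ⁅W, P⁆ ≤ Oc x := commutator_le.2 fun w hw p hp => X.cen w hw p (a.le hp).2
      obtain ⟨_, e⟩ := mem_mker.1 (hk.ge (h2 (this.ge hu)))
      exact u1 e
    obtain ⟨y, hy, y1⟩ := trivgPn.1 hPW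
    obtain ⟨b, hb, e⟩ := F.mov x (F.AU hx) xV s hs
    have cW := card_sup_TI (.inl ((X.WA.trans F.AU).trans (cents_norm F.UcV))) X.inf
    rw [X.sup, F.cA, F.cV] at cW
    obtain ⟨w, hw, wx⟩ := exists_not_mem (A := W) (B := zpowers x) (by
      rw [Nat.card_zpowers, ord2 (F.eA x hx) fun e => xV (e ▸ one_mem _)]; omega)
    have cb : ∀ v ∈ V, Commute v b := fun v hv => mem_cent.1 (F.UcV hb) v hv
    have nb : ∀ w ∈ W, Commute b w → w = 1 := fun w hw hc => by_contra fun w1 => by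
      have := F.cenA w (X.WA hw) (fun h => w1 (mem_bot.1 (X.inf.le ⟨hw, h⟩))) b hb hc
      rw [conj_eq_of_cent (F.ab.cent this) hx] at e
      exact s1 (by simpa using e)
    have hv := F.com _ (inv_mem (F.AU (X.WA hw))) _ (inv_mem hb)
    simp only [inv_inv] at hv
    set v := w⁻¹ * b⁻¹ * w * b with ev
    have v1 : v ≠ 1 := fun h => wx (nb w hw (by
      rw [ev, mul_assoc, ← mul_inv_rev, inv_mul_eq_one] at h; exact h) ▸ one_mem _)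
    have vs : v ≠ s := fun h => wx (by
      have : x * w⁻¹ = 1 := nb _ (mul_mem X.xW (inv_mem hw)) (by
        have h1 : b * w⁻¹ * b⁻¹ = s * w⁻¹ := by
          calc _ = b * v * b⁻¹ * w⁻¹ := by rw [ev]; group
            _ = _ := by rw [h, ← (cb s hs).eq, mul_inv_cancel_right]
        rw [Commute, SemiconjBy, ← mul_inv_eq_iff_eq_mul, cmul, e, h1, mul_assoc, ← mul_assoc s, F.eV hs, one_mul])
      rw [← mul_inv_eq_one.1 this]; exact mem_zpowers x)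
    have ys : Commute y s := mem_cent1.1 (pcore_sub _ _ (a.le hy.1).1)
    have c1 : b⁻¹ * y * b ∈ C1[x] := by
      have : Commute y (b * x * b⁻¹) := e ▸ Commute.mul_right (mem_cent1.1 (a.le hy.1).2) ys
      rw [mem_cent1]
      calc _ = b⁻¹ * (y * (b * x * b⁻¹)) * b := by group
        _ = _ := by rw [this.eq]; group
    have c2 := X.cen w hw _ c1
    have c3 : w * (b⁻¹ * y * b) * w⁻¹ = (b⁻¹ * y * b)⁻¹ := by
      have h1 := inv v hv v1 vs y hy.1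
      have h2 : w * y * w⁻¹ = y := by rw [mem_cent.1 hy.2 w hw, mul_inv_cancel_right]
      have h3 : w = b⁻¹ * (w * v⁻¹) * b := by
        rw [mul_assoc, mul_assoc, (cb _ (inv_mem hv)).eq, ev]; group
      have h4 : v⁻¹ * y * v = y⁻¹ := by rw [inv_eq_of_mul_eq_one_right (F.eV hv)] at h1 ⊢; exact h1
      calc _ = (b⁻¹ * (w * v⁻¹) * b) * (b⁻¹ * y * b) * (b⁻¹ * (w * v⁻¹) * b)⁻¹ := by rw [← h3]
        _ = b⁻¹ * (w * (v⁻¹ * y * v) * w⁻¹) * b := by group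
        _ = b⁻¹ * (w * y * w⁻¹)⁻¹ * b := by rw [h4]; group
        _ = _ := by rw [h2]; group
    rw [c3, ← mul_inv_rev, inv_mem_iff, show b⁻¹ * y * b * (b⁻¹ * y * b) = b⁻¹ * (y * y) * b⁻¹⁻¹ by group] at c2
    by_contra hn
    have := p_elt_eq_one (p_eltJ.2 (mem_p_elt a.pi (mul_mem hy.1 hy.1))) (mem_p_elt ((p'natE Fact.out).2 hn) c2)
    exact y1 (eq_one_of_sq (odd_elt oP hy.1) (conj_eq_one_iff.1 this))
  obtain ⟨R, sR, nR⟩ := coprime_Sylow_exists r (nO x hx) (cop2 (odd_Op' _) F.ab.pg) sl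
  have oR := odd_pg D.r2 sR.pg
  have AΓ : A ≤ C1[x] ⊓ N[R] := le_inf hS.le nR
  choose! P sP nP inv u hu using syl _ AΓ inf_le_left (Frattini_arg (pcore_normal _ _) sR)
  have RP : ∀ v ∈ V, v ≠ 1 → R ⊓ C1[v] ≤ P v := fun v hv v1 => normal_sub_Hall (sP v hv v1) ⟨le_inf
    (C.oA v hv v1 _ inf_le_right (oddSg inf_le_left oR) (normsI nR (normsG (F.AcV hv))))
    (inf_le_left.trans (le_inf (sR.le.trans (pcore_sub _ _)) (normG R))), normsI (inf_le_right.trans inf_le_right)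
    (normsG (inf_le_left.trans (pcore_sub _ _)))⟩ (pgroupS inf_le_left sR.pi)
  have oM : Odd #Z[R] := oddSg inf_le_left oR
  obtain ⟨z, hz, hzM⟩ : ∃ z ∈ V, ¬ Z[R] ≤ C1[z] := by
    by_contra h
    push Not at h
    obtain ⟨m, hm, m1⟩ := trivgPn.1 (center_nil_ne_bot (pgroup_nil sR.pg) (Sylow_ne_bot sR hrx))
    exact m1 (NoR R oR nR m hm.1 (mem_cent.2 fun v hv => (mem_cent1.1 (h v hv hm)).symm) (mem_p_elt sR.pi hm.1))
  have z1 : z ≠ 1 := by rintro rfl; simp at hzM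
  have zA := zpowers_le.2 (F.VA hz)
  have M1 : ⁅Z[R], zpowers z⁆ ≤ Z[R] := commg_subl (zA.trans (norms_center nR))
  have Pz : P z ≤ C1[z] := (sP z hz z1).le.trans (inf_le_left.trans (pcore_sub _ _))
  have h2 := pgroup_cent_ne_bot (sP z hz z1).pg (IsPGroup.sub sR.pg (M1.trans inf_le_left)) (normsR (norms_center
    ((sP z hz z1).le.trans (inf_le_right.trans inf_le_right))) (Pz.trans (cent1_le_norm_zpowers z)))
    fun h => hzM (C_zpowers z ▸ commG1.1 h)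
  obtain ⟨v, hv, v1, h3⟩ : ∃ v ∈ V, v ≠ 1 ∧ ¬ ⁅Z[R], zpowers z⁆ ⊓ C[P z] ⊓ C1[v] ≤ ⊥ := by
    by_contra h
    push Not at h
    exact h2 (le_bot_iff.1 (coprime_abelian_gen_cent1 F.abV.abelian F.ncyc (F.VA.trans (normsI (normsR
      (norms_center nR) ((F.AcV hz).trans (cent1_le_norm_zpowers z))) (norms_cent (nP z hz z1))))
      (cop2 (oddSg (inf_le_left.trans M1) oM) F.abV.pg) h))
  obtain ⟨m, ⟨⟨m2, m3⟩, m4⟩, m1⟩ := trivgPn.1 (mt le_bot_iff.2 h3)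
  have vz : v ≠ z := by
    rintro rfl
    exact m1 (mem_bot.1 ((coprime_abel_cent_TI (zA.trans (norms_center nR)) (cop2 oM (pg_zp (F.eV hz)))
      (center_abelian R)).le ⟨m2, C_zpowers v ▸ m4⟩))
  have mR : m ∈ R := (M1 m2).1
  have vΛ : v ∈ L ⊓ C1[m] := ⟨X.VL hv, mem_cent1_comm.1 m4⟩
  obtain ⟨T, sT, vT⟩ := Sylow_superset (zpowers_le.2 vΛ) (pg_zp (F.eV hv))
  have sV : SylowIn 2 V L := X.LA ▸ Sylow_setI_normal X.Ln hS
  obtain ⟨g, hg, Tg⟩ := Sylow_subJ sV (sT.le.trans inf_le_left) sT.pg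
  have c2 : #(zpowers v) = 2 := by rw [Nat.card_zpowers, ord2 (F.eV hv) v1]
  have eT : zpowers v = T := by
    refine eq_of_card_le vT ?_
    rcases Tg.eq_or_lt with h | h
    · refine absurd ?_ m1
      have := NoR _ (odd_Op' _) (nO x hx) (g⁻¹ * m * g) (conj_mem_of_norm' ((pcore_normal _ _).norm (X.Ln.le hg))
        (sR.le mR)) (mem_cj.1 (by rw [← C_cj, ← h]; exact le_cent1_iff.1 (sT.le.trans inf_le_right)))
        (by simpa using (p_eltJ (g := g⁻¹)).2 (mem_p_elt sR.pi mR))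
      exact (conj_eq_one_iff (a := g⁻¹)).1 (by rwa [inv_inv])
    · have h1 := proper_card h
      have h2 := cardSg h.le
      rw [card_cj, F.cV] at h1 h2
      rw [c2]
      interval_cases #T <;> omega
  have sd := Burnside_normal_complement sT (by
    rw [← eT, C_zpowers]
    intro n hn
    rcases (Invol.mem_zpowers_invol (F.eV hv)).1 (conj_mem_of_norm hn.2 (mem_zpowers v)) with h | h
    · exact absurd (by simpa using h) v1
    · exact mem_cent1.2 (mul_inv_eq_iff_eq_mul.1 h))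
  obtain ⟨a1, a2, a3⟩ := hu z hz z1
  obtain ⟨b1, b2, b3⟩ := hu v hv v1
  have abv := comm_of_inv (inv v hv v1 z hz z1 vz.symm)
  have pe : ∀ w ∈ V, w ≠ 1 → ((u w : G) ∈ P w) → PiElt {r} (π (u w)) := fun w hw w1 h =>
    PiNat.of_dvd (mem_p_elt (sP w hw w1).pi h) ((orderOf_map_dvd π _).trans (orderOf_coe (u w)).symm.dvd)
  refine D.c2 (X := mim π (Op' 2 (L ⊓ C1[m]))) (j := π ⟨v, X.VL hv⟩) (morphim_odd π (odd_Op' _))
    ⟨mem_mim_of _ (odd_mem_sd sd sT.pg ⟨(u z).2, mem_cent1.2 (mem_cent.1 m3 _ a1)⟩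
      (odd_elt (odd_pg D.r2 (sP z hz z1).pg) a1)), a2⟩
    ⟨mem_mim_of _ (odd_mem_sd sd sT.pg ⟨(u v).2, mem_cent1.2 (mem_cent.1 (abv (RP v hv v1 ⟨mR, m4⟩)) _ b1)⟩
      (odd_elt (odd_pg D.r2 (sP v hv v1).pg) b1)), b2⟩ a3 b3 (pe z hz z1 a1) (pe v hv v1 b1)
    (D.VN (mem_mim_of _ hv)) ?_ (morphim_norms π (pcore_normal _ _).norm (mem_mim_of _ vΛ)) ?_
    (Commute.map (Subtype.ext (mem_cent1.1 (pcore_sub _ _ ((sP v hv v1).le b1).1)).symm) π)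
  · rw [← map_mul, ← map_one π]; exact congrArg π (Subtype.ext (F.eV hv))
  · rw [← map_inv, ← map_inv, ← map_mul, ← map_mul]
    exact congrArg π (Subtype.ext (inv z hz z1 v hv v1 vz _ a1))

end

end Cfsg.Agent.HJS
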