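import Cfsg.Agent.S3188
import Cfsg.Agent.S0514
import Cfsg.Agent.S3277
import Cfsg.Agent.S2119
import Cfsg.Agent.AB.PSL2
import Cfsg.Agent.Gen2.Basic
import Cfsg.Agent.Solv.Fitting

/-! Groups with `O(Z) = 1` and a four-group as Sylow 2-subgroup: centralisers of involutions and of elements of
odd order. -/

set_option autoImplicit false

namespace Cfsg.Agent.HJS

open Subgroup Cfsg.Agent.Classical
open scoped MatrixGroups

section PSL
variable {F : Type*} [Field F] [Finite F]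

omit [Finite F] in
theorem yl_trace {U : SL(2, F)} (h1 : pslMk F U ≠ 1) (ho : Odd (orderOf (pslMk F U))) : U.1.trace ≠ 0 := by
  intro h
  have h2 : pslMk F U ^ 2 = 1 := by
    rw [← map_pow, sq, sl_mul_self_eq_neg_one_of_trace h, pslMk_neg, map_one]
  rw [orderOf_eq_prime h2 h1] at ho
  exact absurd ho (by decide)

omit [Finite F] in
theorem yl_lift {U x : SL(2, F)} (h1 : pslMk F U ≠ 1) (ho : Odd (orderOf (pslMk F U)))
    (h : Commute (pslMk F x) (pslMk F U)) : x ∈ centralizer ({U} : Set SL(2, F)) := by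
  rw [← comap_centralizer_pslMk (Or.inl (yl_trace h1 ho))]
  exact mem_centralizer_singleton_iff.2 h

omit [Finite F] in
theorem yl_a {u g h : PSL(2, F)} (h1 : u ≠ 1) (ho : Odd (orderOf u)) (hg : Commute g u) (hh : Commute h u) :
    Commute g h := by
  obtain ⟨U, rfl⟩ := pslMk_surjective u
  obtain ⟨x, rfl⟩ := pslMk_surjective g
  obtain ⟨y, rfl⟩ := pslMk_surjective h
  exact Commute.map (sl_commute_of_mem_centralizer (mt pslMk_eq_one_iff.2 h1) (yl_lift h1 ho hg)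
    (yl_lift h1 ho hh)) _

theorem yl_b {u a b : PSL(2, F)} (h1 : u ≠ 1) (ho : Odd (orderOf u)) (a2 : a * a = 1) (b2 : b * b = 1)
    (a1 : a ≠ 1) (b1 : b ≠ 1) (hg : Commute a u) (hh : Commute b u) : a = b := by
  obtain ⟨U, rfl⟩ := pslMk_surjective u
  obtain ⟨x, rfl, hx⟩ := exists_lift_invol a2 a1
  obtain ⟨y, rfl, hy⟩ := exists_lift_invol b2 b1
  have nx := mt pslMk_eq_one_iff.2 a1
  have e := sl_centralizer_eq_of_mem (mt pslMk_eq_one_iff.2 h1) nx (yl_lift h1 ho hg)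
  obtain ⟨c, d, e1⟩ := (mem_centralizer_SL_iff_lin nx).1 (e ▸ sl_self_mem_centralizer U)
  obtain ⟨c', d', e2⟩ := (mem_centralizer_SL_iff_lin nx).1 (e ▸ yl_lift h1 ho hh)
  have t1 := yl_trace h1 ho
  rw [e1, Matrix.trace_add, Matrix.trace_smul, Matrix.trace_smul, hx, Matrix.trace_one] at t1
  rw [e2, Matrix.trace_add, Matrix.trace_smul, Matrix.trace_smul, hx, Matrix.trace_one] at hy
  have h2 : (2 : F) ≠ 0 := fun h => t1 (by simp [h])
  obtain rfl : c' = 0 := by simpa [h2] using hy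
  have hd := y.2
  rw [zero_smul, zero_add] at e2
  rw [e2, Matrix.det_smul, x.2, Fintype.card_fin, mul_one] at hd
  refine pslMk_eq_iff.2 ((sq_eq_one_iff.1 hd).imp (fun h => Subtype.ext ?_) fun h => Subtype.ext ?_)
  · rw [e2, h, one_smul]
  · rw [sl_neg_coe, e2, h]; simp

theorem yl_four (h : 4 ≤ Nat.card F) (hq : Odd (Nat.card F) ∨ 4 ∣ Nat.card F) : 2 ^ 2 ∣ Nat.card PSL(2, F) := by
  have e := card_PSL2_mul (F := F)
  rcases hq with hq | hq
  · rw [gcd_two_pred_of_odd hq] at e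
    obtain ⟨k, hk⟩ := hq
    obtain ⟨j, hj⟩ := Nat.even_mul_succ_self k
    refine ⟨(2 * k + 1) * j, Nat.eq_of_mul_eq_mul_left two_pos ?_⟩
    rw [e, hk, Nat.add_sub_cancel]
    linear_combination (2 * k + 1) * 4 * hj
  · rw [gcd_two_pred_of_even (even_iff_two_dvd.2 (Dvd.dvd.trans ⟨2, rfl⟩ hq)) (by omega), one_mul] at e
    exact e ▸ (hq.mul_right _).mul_right _

end PSL

theorem yl_odd {Z : Type*} [Group Z] {g a : Z} (ho : Odd (orderOf g)) (h : Commute (g ^ 2) a) : Commute g a := by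
  obtain ⟨k, hk⟩ := ho
  have : g = (g ^ 2) ^ (k + 1) := by
    rw [← pow_mul, show 2 * (k + 1) = orderOf g + 1 by omega, pow_succ, pow_orderOf_eq_one, one_mul]
  exact this ▸ h.pow_left _

theorem ylem {Z : Type*} [Group Z] [Finite Z] (hO : Cfsg.oddCore Z = ⊥) (V : Subgroup Z) (hV4 : Nat.card V = 4)
    (hV2 : ∀ v ∈ V, v * v = 1) (hS : ¬ 2 ∣ V.index) :
    (∀ v ∈ V, v ≠ 1 → ∀ g : Z, Odd (orderOf g) → Commute g v → g = 1) ∨ ∃ N : Subgroup Z, N.Normal ∧ V ≤ N ∧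
      (∀ u ∈ N, u ≠ 1 → Odd (orderOf u) → ∀ g ∈ N, ∀ h ∈ N, Commute g u → Commute h u → Commute g h) ∧
      (∀ u ∈ N, u ≠ 1 → Odd (orderOf u) → ∀ a ∈ V, ∀ b ∈ V, a ≠ 1 → b ≠ 1 → Commute a u → Commute b u → a = b) ∧
      ∃ r : ℕ, r.Prime ∧ r ≠ 2 ∧ ∀ v ∈ V, v ≠ 1 → ∃ u ∈ N, u ≠ 1 ∧ u ^ r = 1 ∧ Commute u v := by
  have pV : IsPGroup 2 V := IsPGroup.of_card (n := 2) hV4
  have : Nontrivial V := Finite.one_lt_card_iff_nontrivial.1 (by omega)
  have hK : IsKleinFour V := ⟨hV4, (Monoid.exponent_eq_prime_iff Nat.prime_two).2 fun v hv =>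
    orderOf_eq_prime (Subtype.ext (by rw [sq]; exact hV2 v v.2)) hv⟩
  have hc : ∀ a ∈ V, ∀ b ∈ V, a * b = b * a := fun a ha b hb => by
    rw [← inv_eq_of_mul_eq_one_right (hV2 _ (mul_mem ha hb)), mul_inv_rev, inv_eq_of_mul_eq_one_right (hV2 a ha),
      inv_eq_of_mul_eq_one_right (hV2 b hb)]
  let S : Sylow 2 Z := pV.toSylow hS
  rcases S3188.result S ⟨⟨fun a b => Subtype.ext (hc _ a.2 _ b.2)⟩⟩ (fun t ht => by
      obtain ⟨N, hN, h1, k, h2⟩ := S0514.result S 2 le_rfl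
        (IsKleinFour.nonempty_mulEquiv (G₁ := V) (G₂ := DihedralGroup 2)) t ht
      have := FTC.solvable_of_odd h1
      have := (IsPGroup.of_card (G := _ ⧸ N) h2).isNilpotent
      exact Group.isSolvable_of_ker_le_range N.subtype (QuotientGroup.mk' N) (by simp)) with
    hs | ⟨F, i1, i2, hF, N0, n0, ⟨e0⟩, c0⟩
  · have c := Solv.centralizer_pCore_le (G := Z) (p := 2) hO
    have l1 : pCore 2 Z ≤ V := Solv.pCore_le_sylow S
    have l2 : V = pCore 2 Z := le_antisymm (fun a ha => c fun b hb => hc _ (l1 hb) _ ha) l1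
    rw [← l2] at c
    have hn : V.Normal := l2 ▸ Solv.instNormalPCore 2 Z
    refine Or.inl fun v hv v1 g ho hg => ?_
    have hgV : g ∈ V := c fun a ha => (yl_odd ho ?_).symm.eq
    · by_contra g1
      rw [orderOf_eq_prime (p := 2) (by rw [sq, hV2 g hgV]) g1] at ho
      exact absurd ho (by decide)
    have gv : g * v * g⁻¹ = v := by rw [hg.eq, mul_inv_cancel_right]
    refine (mul_inv_eq_iff_eq_mul.1 (?_ : g ^ 2 * a * (g ^ 2)⁻¹ = a))
    rw [show g ^ 2 * a * (g ^ 2)⁻¹ = g * (g * a * g⁻¹) * g⁻¹ by rw [sq]; group]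
    by_cases a1 : a = 1
    · simp [a1]
    by_cases a2 : a = v
    · rw [a2, gv, gv]
    by_cases a3 : g * a * g⁻¹ = a
    · rw [a3, a3]
    have := IsKleinFour.eq_mul_of_ne_all (G := V) (x := ⟨v, hv⟩) (y := ⟨a, ha⟩) (z := ⟨_, hn.conj_mem a ha g⟩)
      (fun e => v1 (congrArg Subtype.val e)) (fun e => a1 (congrArg Subtype.val e))
      (fun e => a2 (congrArg Subtype.val e).symm) (fun e => a1 (conj_eq_one_iff.1 (congrArg Subtype.val e)))
      (fun e => a2 (conj_injective ((congrArg Subtype.val e).trans gv.symm))) fun e => a3 (congrArg Subtype.val e)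
    have e : g * a * g⁻¹ = v * a := congrArg Subtype.val this
    rw [e, ← conj_mul, gv, e, ← mul_assoc, hV2 v hv, one_mul]
  let π : (Z ⧸ oddCore Z) ≃* Z := (QuotientGroup.quotientMulEquivOfEq hO).trans QuotientGroup.quotientBot
  obtain ⟨N, hN, ⟨e⟩, cN⟩ : ∃ N : Subgroup Z, N.Normal ∧ Nonempty (N ≃* PSL(2, F)) ∧ centralizer (N : Set Z) = ⊥ :=
    ⟨N0.map π.toMonoidHom, n0.map _ π.surjective, ⟨(π.subgroupMap N0).symm.trans e0⟩, eq_bot_iff.2 fun g hg => by
      have : π.symm g ∈ centralizer (N0 : Set (Z ⧸ oddCore Z)) := fun x hx => π.injective (by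
        simpa using hg (π x) ⟨x, hx, rfl⟩)
      rw [c0] at this
      simpa using this⟩
  rw [← Nat.card_eq_fintype_card] at hF
  have h4 : 4 ≤ Nat.card F := by
    rcases hF with h | ⟨n, hn, h⟩
    exacts [by omega, h ▸ Nat.pow_le_pow_right two_pos hn]
  have hs : IsSimpleGroup N := by
    have : IsSimpleGroup PSL(2, F) := Matrix.ProjectiveSpecialLinearGroup.rank_two_simple h4
    exact e.isSimpleGroup
  have d4 : 2 ^ 2 ∣ Nat.card N := by
    rw [Nat.card_congr e.toEquiv]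
    refine yl_four h4 (hF.imp (fun h => Nat.odd_iff.2 (by omega)) ?_)
    rintro ⟨n, hn, h⟩
    exact h ▸ pow_dvd_pow 2 hn
  have hVN : V ≤ N := by
    have h1 : 2 ^ 2 ∣ Nat.card (V.subgroupOf N) := (Gen2.sylowInf S N).pow_dvd_card_of_pow_dvd_card d4
    rw [← inf_subgroupOf_right, Nat.card_congr (subgroupOfEquivOfLe inf_le_right).toEquiv] at h1
    exact inf_eq_left.1 (eq_of_le_of_card_ge inf_le_left (hV4 ▸ Nat.le_of_dvd Nat.card_pos h1))
  have eo : ∀ u : N, orderOf (e u) = orderOf (u : Z) := fun u => by rw [e.orderOf_eq, orderOf_coe]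
  have e1 : ∀ u : N, (u : Z) ≠ 1 → e u ≠ 1 := fun u h h' => h (congrArg Subtype.val (e.map_eq_one_iff.1 h'))
  have ec : ∀ u v : N, Commute (e u) (e v) ↔ Commute (u : Z) v := fun u v =>
    ⟨fun h => (h.of_map e.injective).map N.subtype, fun h => Commute.map (Subtype.ext h : Commute u v) e⟩
  by_cases hu : ∃ v ∈ V, v ≠ 1 ∧ ∃ u ∈ N, u ≠ 1 ∧ Odd (orderOf u) ∧ Commute u v
  · obtain ⟨v, hv, v1, u, hu, u1, uo, uv⟩ := hu
    refine Or.inr ⟨N, hN, hVN, fun u hu u1 uo g hg h hh a b => (ec ⟨g, hg⟩ ⟨h, hh⟩).1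
      (yl_a (e1 ⟨u, hu⟩ u1) (eo _ ▸ uo) ((ec _ _).2 a) ((ec _ _).2 b)), fun u hu u1 uo a ha b hb a1 b1 h h' => ?_,
      (orderOf u).minFac, Nat.minFac_prime (mt orderOf_eq_one_iff.1 u1), fun h =>
        (Nat.not_even_iff_odd.2 uo) (even_iff_two_dvd.2 (h ▸ Nat.minFac_dvd _)), fun w hw w1 => ?_⟩
    · exact congrArg Subtype.val (e.injective (yl_b (a := e ⟨a, hVN ha⟩) (b := e ⟨b, hVN hb⟩) (e1 ⟨u, hu⟩ u1)
        (eo _ ▸ uo) (by rw [← map_mul, e.map_eq_one_iff]; exact Subtype.ext (hV2 a ha))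
        (by rw [← map_mul, e.map_eq_one_iff]; exact Subtype.ext (hV2 b hb)) (e1 _ a1) (e1 _ b1) ((ec _ _).2 h)
        ((ec _ _).2 h')))
    obtain ⟨c, hc⟩ := isConj_iff.1 (AB.psl_cls (x := e ⟨v, hVN hv⟩) (y := e ⟨w, hVN hw⟩)
      ((eo _).trans (orderOf_eq_prime (by rw [sq, hV2 v hv]) v1))
      ((eo _).trans (orderOf_eq_prime (by rw [sq, hV2 w hw]) w1)))
    obtain ⟨c, rfl⟩ := e.surjective c
    rw [← map_inv, ← map_mul, ← map_mul] at hc
    have hc' : (c : Z) * v * (c : Z)⁻¹ = w := congrArg Subtype.val (e.injective hc)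
    have ho := orderOf_pow_orderOf_div (orderOf_pos u).ne' (Nat.minFac_dvd (orderOf u))
    refine ⟨c * u ^ (orderOf u / (orderOf u).minFac) * (c : Z)⁻¹, hN.conj_mem _ (pow_mem hu _) _, fun h => ?_, ?_,
      hc' ▸ (uv.pow_left _).conj _⟩
    · rw [conj_eq_one_iff.1 h, orderOf_one] at ho
      exact (Nat.minFac_prime (mt orderOf_eq_one_iff.1 u1)).ne_one ho.symm
    · rw [conj_pow, ← ho, ho, ← pow_mul, Nat.div_mul_cancel (Nat.minFac_dvd _), pow_orderOf_eq_one]
      simp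
  push Not at hu
  refine Or.inl fun v hv v1 g ho hg => ?_
  suffices h : N = ⊤ by
    by_contra g1
    exact hu v hv v1 g (h ▸ mem_top g) g1 ho hg
  have nc : ¬ ∀ a b : N, a * b = b * a := fun h => v1 (mem_bot.1 (cN ▸ (fun x hx =>
    congrArg Subtype.val (h ⟨x, hx⟩ ⟨v, hVN hv⟩) : v ∈ centralizer (N : Set Z))))
  have pC : IsPGroup 2 (centralizer ({⟨v, hVN hv⟩} : Set N)) := fun x => by
    obtain ⟨k, m, hm, h⟩ := Nat.exists_eq_two_pow_mul_odd (orderOf_pos (x.1.1 : Z)).ne'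
    refine ⟨k, Subtype.ext (Subtype.ext ?_)⟩
    by_contra h1
    refine hu v hv v1 _ (pow_mem x.1.2 (2 ^ k)) h1 ?_
      (Commute.pow_left (congrArg Subtype.val (mem_centralizer_singleton_iff.1 x.2)) _)
    exact Odd.of_dvd_nat hm (orderOf_dvd_of_pow_eq_one (by rw [← pow_mul, ← h, pow_orderOf_eq_one]))
  have eC : centralizer ({⟨v, hVN hv⟩} : Set N) = V.subgroupOf N := (Gen2.sylowInf S N).is_maximal' pC
    fun x hx => mem_centralizer_singleton_iff.2 (Subtype.ext (hc _ hx _ hv))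
  obtain ⟨f⟩ := S3277.result (G := N) ⟨v, hVN hv⟩
    (orderOf_eq_prime (Subtype.ext (by rw [sq]; exact hV2 v hv)) fun h => v1 (congrArg Subtype.val h))
    (by rw [eC, Nat.card_congr (subgroupOfEquivOfLe hVN).toEquiv, hV4])
    (fun x hx => Subtype.ext (by rw [eC] at hx; rw [sq]; exact hV2 _ hx)) (by
      rintro ⟨P, M, hM, h⟩
      rcases hM.eq_bot_or_eq_top with rfl | rfl
      · have h1 : IsPGroup 2 N := (isComplement'_bot_left.1 h ▸ P.isPGroup').of_equiv topEquiv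
        have := h1.isNilpotent
        exact nc (IsSimpleGroup.comm_iff_isSolvable.2 inferInstance)
      · have h1 := P.pow_dvd_card_of_pow_dvd_card d4
        rw [isComplement'_top_left.1 h, card_bot] at h1
        omega) fun E hE h => by
      rcases hE.eq_bot_or_eq_top with rfl | rfl
      · simp
      · exact absurd (fun a b => congrArg Subtype.val (h.1.1.1 ⟨a, trivial⟩ ⟨b, trivial⟩)) nc
  have h1 : Nat.card Z ∣ Nat.card (MulAut N) := card_dvd_of_injective MulAut.conjNormal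
    ((injective_iff_map_eq_one _).2 fun g hg => mem_bot.1 (cN ▸ (fun x hx =>
      (mul_inv_eq_iff_eq_mul.1 (show g * x * g⁻¹ = x from
        congrArg Subtype.val (DFunLike.congr_fun hg (⟨x, hx⟩ : N)))).symm :
        g ∈ centralizer (N : Set Z))))
  rw [Nat.card_congr (MulAut.congr f).toEquiv,
    ← Nat.card_congr (Equiv.ofBijective _ (S2119.result 5 (by omega) (by omega))), ← N.card_mul_index,
    ← two_mul_nat_card_alternatingGroup, Nat.card_congr f.toEquiv, mul_comm 2,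
    Nat.mul_dvd_mul_iff_left Nat.card_pos] at h1
  rcases (Nat.dvd_prime Nat.prime_two).1 h1 with h | h
  exacts [index_eq_one.1 h, absurd (h ▸ index_dvd_of_le hVN) hS]

end Cfsg.Agent.HJS
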