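import Cfsg.Agent.HJS.G5
import Cfsg.Agent.HJS.Ylem
import Cfsg.Agent.S0217
import Cfsg.Agent.S1221

/-! Balance, the signalizer closure and the main induction (helper12). -/

set_option autoImplicit false
set_option linter.unusedSectionVars false

namespace Cfsg.Agent.HJS

open Subgroup Cfsg.Agent.BG

universe u

variable {G : Type*} [Group G] [Finite G] {V A B U : Subgroup G}

theorem OcJ (g a : G) : Oc (g * a * g⁻¹) = cj g (Oc a) := by rw [Oc, C1_conj]; exact pcoreJ _ _ _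

def Wd (E : Subgroup G) : Subgroup G := ⨆ a : {a : G // a ∈ E ∧ a ≠ 1}, Oc a.1

theorem le_Wd {E : Subgroup G} {a : G} (h : a ∈ E) (a1 : a ≠ 1) : Oc a ≤ Wd E :=
  le_iSup (fun a : {a : G // a ∈ E ∧ a ≠ 1} => Oc a.1) ⟨a, h, a1⟩

theorem WdJ (g : G) (E : Subgroup G) : Wd (cj g E) = cj g (Wd E) := by
  have k : ∀ (g : G) (E : Subgroup G), cj g (Wd E) ≤ Wd (cj g E) := fun g E => by
    rw [Wd, cj_iSup]
    exact iSup_le fun a => OcJ g a.1 ▸ le_Wd (conj_mem_cj g a.2.1) (by simpa using a.2.2)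
  exact le_antisymm (le_cj_iff.2 (by simpa using k g⁻¹ (cj g E))) (k g E)

def Star (U : Subgroup G) : Prop := ∀ r : ℕ, r.Prime → r ≠ 2 → ∀ D : Subgroup G, D ≠ ⊥ → IsPGroup r D → U ≤ N[D] →
  ∀ X ≤ N[D], IsPGroup r X → U ≤ N[X] → X ≤ Op' 2 N[D]

namespace Fr
variable (F : Fr V A B U) (C : Lc V A B)
include F

theorem fusedA {b g : G} (hb : b ∈ A) (hg : g * b * g⁻¹ ∈ V) :
    ∃ h, h * b * h⁻¹ = g * b * g⁻¹ ∧ (cj h A = A ∨ cj h A = B) := by
  have := Nat.fact_prime_two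
  obtain ⟨S, hS, hU⟩ := Sylow_superset (F.UcV.trans (cent_le_cent1 hg)) F.pU
  obtain ⟨c, hc, e⟩ := Sylow_Jsub hS (Q := cj g A) (by
    rw [C1_conj]; exact cj_mono g (le_cent1_iff.2 (F.ab.cent hb))) (IsPGroup.cj F.ab.pg g)
  refine ⟨c * g, ?_, F.cjA hS.pg hU (by rwa [cj_mul])⟩
  calc _ = c * (g * b * g⁻¹) * c⁻¹ := by group
    _ = _ := by rw [mem_cent1.1 hc]; group

include C

theorem bal (st : Star U) {b : G} (hb : b ∈ A) (b1 : b ≠ 1) :
    (∀ a ∈ A, a ≠ 1 → Oc a ⊓ C1[b] ≤ Oc b) ∧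
      ((∃ g, g * b * g⁻¹ ∈ V) ∨ ∃ D ≤ A, ¬ IsCyclic D ∧ C1[b] ≤ Oc b ⊔ N[D]) := by
  have := Nat.fact_prime_two
  have nX : ∀ a ∈ A, A ≤ N[Oc a ⊓ C1[b]] := fun a ha => normsI (norms_pcore _ (normsG (le_cent1_iff.2 (F.ab.cent ha))))
    (normsG (le_cent1_iff.2 (F.ab.cent hb)))
  have oX : ∀ a, Odd #(Oc a ⊓ C1[b]) := fun a => oddSg inf_le_left (odd_Op' _)
  by_cases nf : ∃ g, g * b * g⁻¹ ∈ V
  · refine ⟨fun a ha a1 => ?_, .inl nf⟩
    obtain ⟨g, hg⟩ := nf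
    obtain ⟨h, e, hA⟩ := F.fusedA hb hg
    rw [← e] at hg
    have h1 : cj h (Oc a ⊓ C1[b]) ≤ C1[h * b * h⁻¹] := by rw [C1_conj]; exact cj_mono h inf_le_right
    have h2 : cj h A ≤ N[cj h (Oc a ⊓ C1[b])] := by rw [N_cj]; exact cj_mono h (nX a ha)
    have h3 : Odd #(cj h (Oc a ⊓ C1[b])) := by rw [card_cj]; exact oX a
    rw [← cj_le_cj (g := h), ← OcJ]
    rcases hA with e | e <;> rw [e] at h2
    · exact C.oA _ hg (by simpa using b1) _ h1 h3 h2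
    · exact C.oB _ hg (by simpa using b1) _ h1 h3 h2
  push Not at nf
  have hS := F.sylA hb nf
  obtain sd | ⟨W, L, X⟩ := F.loc hb nf
  · exact ⟨fun a _ _ g hg => odd_mem_sd sd F.ab.pg hg.2 (odd_elt (oX a) hg), .inr ⟨A, le_rfl,
      fun h => F.ncyc (cyclicS F.VA h), sd.sup.ge.trans (sup_le_sup_left (normG A) _)⟩⟩
  have pW := IsPGroup.sub F.ab.pg X.WA
  have cov := Solv.sup_inf_centralizer_eq_of_commutator_le (K := C1[b]) ((X.WA.trans hS.le).trans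
    (pcore_normal {2}ᶜ _).norm) (cop2 (odd_Op' _) pW).symm (.inl (sol2 pW)) (pcore_sub _ _)
    (by rw [commGC]; exact commutator_le.2 fun w hw g hg => X.cen w hw g hg)
  refine ⟨?_, .inr ⟨W, X.WA, fun h => ?_, cov.ge.trans (sup_le_sup_left (inf_le_right.trans (cent_sub W)) _)⟩⟩
  swap
  · have cW := card_sup_TI (.inl ((X.WA.trans F.AU).trans (cents_norm F.UcV))) X.inf
    have := Nat.le_of_dvd two_pos (cyclic_abelem_card_dvd (abelemS X.WA F.ab) h)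
    rw [X.sup, F.cA, F.cV] at cW
    omega
  let π := QuotientGroup.mk' (pPrimeCore 2 L)
  have hπ : Function.Surjective π := QuotientGroup.mk'_surjective _
  have hk : mker π = Oc b := by
    rw [mker, QuotientGroup.ker_mk', ← Op'_eq]
    exact (pcore_setI_normal _ X.Ln).symm.trans (inf_eq_left.2 X.OL)
  have sV := morphim_pHall π le_rfl (X.LA ▸ Sylow_setI_normal X.Ln hS : SylowIn 2 V L)
  rw [morphim_dom, MonoidHom.range_eq_top.2 hπ] at sV
  have cV : #(mim π V) = 4 := by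
    rw [← F.cV]
    exact (card_isog (isog_morphim X.VL (by rw [hk]; exact coprime_TI (cop2 (odd_Op' _) F.abV.pg).symm))).symm
  obtain hI | ⟨N, n1, n2, n3, n4, r, rp, r2, n5⟩ := ylem (PLocal.pPrimeCore_quotient_pPrimeCore 2 L) (mim π V) cV
    (fun v hv => by rw [← pow_two]; exact (morphim_abelem π F.abV).pow hv) (by simpa using sV.not_dvd)
  swap
  · have := Fact.mk rp
    have D : Bd (mim π V) N r := ⟨n1, n2, n3, n4, r2, n5⟩
    by_cases hr : r ∣ #(Op' 2 C[V])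
    · exact (bad1 F C hb X hπ hk D (st r rp r2) hr).elim
    · exact (bad2 F C hb X hπ hk D hS (by simpa using nf 1) hr).elim
  intro a ha a1
  obtain ⟨w, hw, v, hv, rfl⟩ := (mem_sup_normr ((X.WA.trans F.AU).trans (cents_norm F.UcV))).1 (X.sup.ge ha)
  by_cases v1 : v = 1
  · subst v1
    rw [mul_one] at *
    have h1 : C1[b] ⊓ C[W] ≤ N[Oc w ⊓ C1[b]] := normsI (inf_le_right.trans ((cent_le_cent1 hw).trans
      (pcore_normal _ _).norm)) (normsG inf_le_left)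
    have h2 : Oc w ⊓ C1[b] ≤ N[Oc b] := inf_le_right.trans (pcore_normal _ _).norm
    refine le_sup_right.trans (le_Op' (X := Oc b ⊔ Oc w ⊓ C1[b]) ⟨sup_le (pcore_sub _ _) inf_le_right, ?_⟩
      (pnat_odd.1 (pgroupY (.inr h2) (pcore_pgroup _ _) (pnat_odd.2 (oX w)))))
    exact cov.ge.trans (sup_le (normsG le_sup_left) (normsY (inf_le_left.trans (pcore_normal _ _).norm) h1))
  · intro g hg
    have gL := X.oddL (oX _) inf_le_right hg
    have hc : Commute g (w * v) := mem_cent1.1 (pcore_sub _ _ hg.1)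
    have := hI (π ⟨v, X.VL hv⟩) (mem_mim_of _ hv) (pi_ne F hk (F.VA hv) v1) (π ⟨g, gL⟩)
      ((odd_elt (oX _) hg).of_dvd_nat ((orderOf_map_dvd π _).trans (orderOf_coe (⟨g, gL⟩ : L)).symm.dvd)) (by
        have h1 := X.cen _ (inv_mem hw) g hg.2
        rw [inv_inv, show w⁻¹ * g * w * g⁻¹ = v * g * v⁻¹ * g⁻¹ by
          calc _ = w⁻¹ * (g * (w * v)) * v⁻¹ * g⁻¹ := by group
            _ = _ := by rw [hc.eq]; group] at h1
        obtain ⟨h2, e⟩ := mem_mker.1 (hk.ge h1)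
        refine (commutatorElement_eq_one_iff_commute.1 ?_).symm
        rw [← e, ← map_commutatorElement]; rfl)
    exact hk.le (mem_mker.2 ⟨gL, this⟩)

variable (st : Star U)
include st

theorem funct : Odd #(Wd A) ∧ (∀ a ∈ A, a ≠ 1 → Wd A ⊓ C1[a] = Oc a) ∧ ∀ D ≤ A, ¬ IsCyclic D → Wd D = Wd A := by
  have := Nat.fact_prime_two
  obtain ⟨h1, h2⟩ := S0217.result (p := 2) A (le_cent_iff.1 F.ab.cent) (fun a ha => F.ab.pow ha) (by rw [F.cA]; omega) Oc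
    (fun a _ _ => pcore_sub _ _) (fun a _ _ => (odd_Op' _).not_two_dvd_nat)
    (fun a ha _ b hb x hx => conj_mem_of_norm (norms_pcore _ (normsG (le_cent1_iff.2 (F.ab.cent ha))) hb) hx)
    (fun a _ _ => S0205.result (odd_Op' _)) fun a ha a1 b hb b1 => (F.bal C st hb b1).1 a ha a1
  have o : Odd #(Wd A) := Nat.odd_iff.2 (Nat.two_dvd_ne_zero.1 h1)
  refine ⟨o, h2, fun D hD hc => le_antisymm (iSup_le fun a => le_Wd (hD a.2.1) a.2.2) (coprime_abelian_gen_cent1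
    (abelemS hD F.ab).abelian hc (hD.trans ((normG A).trans (norm_of_cj WdJ A))) (cop2 o (IsPGroup.sub F.ab.pg hD))
    fun a ha a1 => (h2 a (hD ha) a1).le.trans (le_Wd ha a1))⟩

theorem WA : Wd V = Wd A := (F.funct C st).2.2 V F.VA F.ncyc

theorem k1 {S : Subgroup G} (hS : IsPGroup 2 S) (hU : U ≤ S) {g : G} (h : cj g A ≤ S) : g ∈ N[Wd V] := by
  rw [mem_norm, F.WA C st, ← WdJ]
  rcases F.cjA hS hU h with e | e <;> rw [e]
  rw [← F.WA C st, F.symm.WA C.symm st]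

theorem cV_le {v : G} (hv : v ∈ V) (v1 : v ≠ 1) : C1[v] ≤ N[Wd V] := by
  have := Nat.fact_prime_two
  obtain ⟨o, h2, -⟩ := F.funct C st
  rw [← F.WA C st] at o h2
  have nV := norm_of_cj WdJ V
  obtain ⟨Y, y1, y2, y3⟩ := C.opp v hv v1
  obtain ⟨S, hS, hU⟩ := Sylow_superset (F.UcV.trans (cent_le_cent1 hv)) F.pU
  have YM : Y ≤ N[Wd V] := le_of_Sylow_le fun p hp _ => by
    have := Fact.mk hp
    by_cases e : p = 2
    · subst e
      exact ⟨_, Sylow_setI_normal y2 hS, inf_le_right.trans ((F.SnV hS.pg hU).trans nV)⟩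
    · obtain ⟨P, hP⟩ := Sylow_exists p Y
      exact ⟨P, hP, fun g hg => normG _ (le_Wd hv v1 (y3 g (hP.le hg) (odd_elt (odd_pg e hP.pg) hg)))⟩
  intro g hg
  have hn : cj g V ≤ N[Wd V] := (cj_le_of_norm (y2.norm hg) y1).trans YM
  refine mem_norm.2 (eq_of_card_le ?_ (card_cj _ _).le).symm
  rw [← WdJ]
  refine coprime_abelian_gen_cent1 (abelemJ g F.abV).abelian (fun h => F.ncyc (cj_inv_cj g V ▸ cyclicJ g⁻¹ h)) hn
    (cop2 o (IsPGroup.cj F.abV.pg g)) fun a ha a1 => le_trans ?_ (le_Wd ha a1)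
  obtain ⟨a, ha', rfl⟩ := mem_cj'.1 ha
  replace a1 : a ≠ 1 := by simpa using a1
  have gv : g * v * g⁻¹ = v := mul_inv_eq_iff_eq_mul.2 (mem_cent1.1 hg)
  have va : zpowers v ≤ C1[g * a * g⁻¹] := zpowers_le.2 (by
    rw [C1_conj, ← gv]; exact conj_mem_cj g (F.AcV ha' (F.VA hv)))
  have nX : zpowers v ≤ N[Wd V ⊓ C1[g * a * g⁻¹]] := normsI (zpowers_le.2 (nV (normG V hv))) (normsG va)
  have oX : Odd #(Wd V ⊓ C1[g * a * g⁻¹]) := oddSg inf_le_left o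
  rw [← coprime_cent_prod' nX (cop2 oX (pg_zp (F.eV hv))) (.inl (sol2 (pg_zp (F.eV hv)))), OcJ]
  refine sup_le (fun y hy => ?_) ?_
  · obtain ⟨Y', z1, z2, z3⟩ := C.opp a ha' a1
    have m : y ∈ cj g Y' := commg_subr (inf_le_right.trans (by rw [C1_conj]; exact (z2.cj g).norm))
      (commgS _ (zpowers_le.2 (gv ▸ conj_mem_cj g (z1 hv))) hy)
    refine mem_cj.2 (z3 _ (mem_cj.1 m) ?_)
    have := odd_elt oX (commg_subl nX hy)
    rwa [← orderOf_conj' g⁻¹, inv_inv] at this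
  · rw [C_zpowers, inf_right_comm, h2 v (F.VA hv) v1, C1_conj, ← show cj g (Oc v) = Oc v from
      cj_of_norm ((pcore_normal {2}ᶜ _).norm hg), ← cj_inf]
    exact cj_mono g (C.oA a ha' a1 _ inf_le_right (oddSg inf_le_left (odd_Op' _))
      (normsI (norms_pcore _ (normsG (F.AcV hv))) (normsG (F.AcV ha'))))

theorem cA_le {a : G} (ha : a ∈ A) (a1 : a ≠ 1) : C1[a] ≤ N[Wd V] := by
  obtain ⟨g, hg⟩ | ⟨D, h1, h2, h3⟩ := (F.bal C st ha a1).2
  · obtain ⟨h, e, hA⟩ := F.fusedA ha hg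
    have hm := F.k1 C st F.pU le_rfl (g := h) (by rcases hA with e | e <;> rw [e]; exacts [F.AU, F.symm.AU])
    have := F.cV_le C st hg (by simpa using a1)
    rwa [← e, C1_conj, cj_le_iff_of_mem hm] at this
  · refine h3.trans (sup_le (le_trans ?_ (normG _)) ?_)
    · rw [F.WA C st]; exact le_Wd ha a1
    · rw [F.WA C st, ← (F.funct C st).2.2 D h1 h2]; exact norm_of_cj WdJ D

theorem tfuse {S : Subgroup G} (hS : SylowIn 2 S ⊤) (hU : U ≤ S) {t g : G} (ht : t ∈ S) (tU : t ∉ U) (t2 : t * t = 1)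
    (hg : g * t * g⁻¹ ∈ A) : ∃ m ∈ N[Wd V], m * t * m⁻¹ ∈ A ∨ m * t * m⁻¹ ∈ B := by
  have := Nat.fact_prime_two
  obtain ⟨z, E⟩ := F.ext' hS.pg hU ht tU
  obtain ⟨q, -, qt, qz⟩ := E.rt t ht tU t2
  have q4 : q * q * (q * q) = 1 := by rw [qz, F.eV E.zV]
  obtain ⟨T, hT, qT⟩ := Sylow_superset (zpowers_le.2 (mem_cent1.2 qt)) (IsPGroup.of_card_dvd_pow (p := 2) (n := 2) (by
    rw [Nat.card_zpowers]; exact orderOf_dvd_of_pow_eq_one (by rw [← q4]; simp [pow_succ, mul_assoc])))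
  have tA : t ∈ cj g⁻¹ A := mem_cj_inv.2 hg
  have ab := abelemJ g⁻¹ F.ab
  obtain ⟨c, hc, e⟩ := Sylow_Jsub hT (le_cent1_iff.2 (ab.cent tA)) ab.pg
  obtain ⟨h, -, e'⟩ := Sylow_Jsub hS le_top hT.pg
  have h1 : V ≤ cj (h * (c * g⁻¹)) A := by
    rcases F.cjA hS.pg hU (g := h * (c * g⁻¹)) (by rw [cj_mul, cj_mul]; exact (cj_mono h e).trans e') with e | e <;> rw [e]
    exacts [F.VA, F.symm.VA]
  have h2 := h1 (F.sqS hS.pg hU (e' (conj_mem_cj h (qT (mem_zpowers q)))) (by simp only [← cmul, q4]; simp))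
  rw [← cmul, qz, cj_mul, conj_mem_cj_iff] at h2
  have ab2 := abelemJ (c * g⁻¹) F.ab
  have SM : S ≤ N[Wd V] := (F.SnV hS.pg hU).trans (norm_of_cj WdJ V)
  obtain ⟨m, hm, e3⟩ := Sylow_Jsub (pHall_subl SM le_top hS)
    ((le_cent1_iff.2 (ab2.cent h2)).trans (F.cV_le C st E.zV E.z1)) ab2.pg
  have t3 : m * t * m⁻¹ ∈ cj (m * (c * g⁻¹)) A := by
    have := conj_mem_cj c tA
    rw [mem_cent1.1 hc, mul_inv_cancel_right, ← cj_mul] at this
    rw [cj_mul]; exact conj_mem_cj m this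
  exact ⟨m, hm, (F.cjA hS.pg hU (by rwa [cj_mul])).imp (fun e => e.le t3) fun e => e.le t3⟩

theorem fin (hO : pPrimeCore 2 G = ⊥) {S : Subgroup G} (hS : SylowIn 2 S ⊤) (hU : U ≤ S)
    (tf : ∀ t ∈ S, t ∉ U → t * t = 1 → ∃ g, g * t * g⁻¹ ∈ U) : Wd V = ⊥ := by
  have := Nat.fact_prime_two
  have o := (F.funct C st).1
  rw [← F.WA C st] at o
  have WO := le_Op' (normalG (Wd V)) o
  have SM : S ≤ N[Wd V] := (F.SnV hS.pg hU).trans (norm_of_cj WdJ V)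
  have sM := pHall_subl SM le_top hS
  by_cases hM : N[Wd V] = ⊤
  · rwa [hM, Op'_top, hO, le_bot_iff] at WO
  have cls : ∀ a ∈ N[Wd V], a * a = 1 → ∃ m ∈ N[Wd V], m * a * m⁻¹ ∈ A ∨ m * a * m⁻¹ ∈ B := fun a ha a2 => by
    obtain ⟨m, hm, e⟩ := Sylow_Jsub sM (zpowers_le.2 ha) (pg_zp a2)
    have h1 := e (conj_mem_cj m (mem_zpowers a))
    have h2 : m * a * m⁻¹ * (m * a * m⁻¹) = 1 := by rw [← cmul, a2]; simp
    by_cases h : m * a * m⁻¹ ∈ U
    · exact ⟨m, hm, F.inv _ h h2⟩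
    obtain ⟨g, hg⟩ := tf _ h1 h h2
    obtain ⟨m', hm', e'⟩ : ∃ m' ∈ N[Wd V], m' * (m * a * m⁻¹) * m'⁻¹ ∈ A ∨ m' * (m * a * m⁻¹) * m'⁻¹ ∈ B :=
      (F.inv _ hg (by rw [← cmul, h2]; simp)).elim (F.tfuse C st hS hU h1 h h2)
        fun hb => (F.symm.tfuse C.symm st hS hU h1 h h2 hb).imp fun _ h => ⟨h.1, h.2.symm⟩
    exact ⟨m' * m, mul_mem hm' hm, by simpa only [mul_assoc, mul_inv_rev] using e'⟩
  have cen : ∀ a ∈ N[Wd V], a * a = 1 → a ≠ 1 → C1[a] ≤ N[Wd V] := fun a ha a2 a1 => by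
    obtain ⟨m, hm, e⟩ := cls a ha a2
    rw [← cj_le_iff_of_mem hm, ← C1_conj]
    exact e.elim (fun h => F.cA_le C st h (by simpa using a1)) fun h => F.symm.cA_le C.symm st h (by simpa using a1)
  have := S1221.result N[Wd V] ⟨hM, even_iff_two_dvd.2 (dvd_trans (by rw [F.cU]; omega) (cardSg (hU.trans SM))),
    fun g hg => Nat.not_even_iff_odd.1 fun h => hg ?_⟩
  · rw [Op'_eq] at WO
    exact le_bot_iff.1 (WO.trans (this.trans hO.le))
  obtain ⟨a, ⟨h1, h2⟩, a2⟩ := Cauchy Nat.prime_two (even_iff_two_dvd.1 h)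
  have aa := Invol.mul_self_of a2
  obtain ⟨m, hm, e⟩ := cls a h1 aa
  have h3 := cen _ (mem_cj.1 h2) (by simp [mul_assoc, ← mul_assoc a, aa])
    (fun e => Invol.ne_one_of a2 ((conj_eq_one_iff (a := g⁻¹)).1 (by rwa [inv_inv])))
  have key : ∀ {A B : Subgroup G}, Fr V A B U → Lc V A B → m * a * m⁻¹ ∈ A → g ∈ N[Wd V] := fun {A B} F C h => by
    have ab := abelemJ (g⁻¹ * m⁻¹) F.ab
    obtain ⟨n, hn, e⟩ := Sylow_Jsub sM ((le_cent1_iff.2 (ab.cent (x := g⁻¹ * a * g) (mem_cj.2 (by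
      simpa only [mul_assoc, mul_inv_rev, inv_inv, mul_inv_cancel_left] using h)))).trans h3) ab.pg
    have := F.k1 C st hS.pg hU (g := n * (g⁻¹ * m⁻¹)) (by rwa [cj_mul])
    rwa [mul_mem_cancel_left hn, mul_mem_cancel_right (inv_mem hm), inv_mem_iff] at this
  exact e.elim (key F C) (key F.symm C.symm)

end Fr

theorem main_ind (n : ℕ) : ∀ (G : Type u) [Group G] [Finite G] (ψ : TC →* G), Nat.card G = n → Md ψ →
    Lc (mim ψ TV) (mim ψ TA) (mim ψ TB) → pPrimeCore 2 G = ⊥ → ∀ v ∈ mim ψ TV, v ≠ 1 → Oc v = ⊥ := by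
  induction n using Nat.strong_induction_on with
  | _ n ih =>
  intro G _ _ ψ hn M C hO
  have := Nat.fact_prime_two
  have F := M.fr
  have sub : ∀ N : Subgroup G, N ≠ ⊤ → mim ψ TC ≤ N → ∀ v ∈ mim ψ TV, v ≠ 1 → Oc v ⊓ N ≤ Op' 2 N :=
    fun N hN hU v hv v1 g hg => by
      let f := QuotientGroup.mk' (pPrimeCore 2 N)
      have hf : Function.Surjective f := QuotientGroup.mk'_surjective _
      have hk : mker f = Op' 2 N := by rw [mker, QuotientGroup.ker_mk', Op'_eq]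
      have ho : Odd #(mker f) := hk ▸ odd_Op' N
      obtain ⟨ψ', M', e⟩ := M.inh ho hf hU
      let v' : N := ⟨v, hU (F.VU hv)⟩
      have := ih _ ?_ _ ψ' rfl M' (by
        simp only [e]
        exact C.inh ho hf (F.AU.trans hU) (F.symm.AU.trans hU) F.VA F.symm.VA (fun _ => F.eV)
          (F.VA.trans F.ab.cent) (F.symm.VA.trans F.symm.ab.cent)) (PLocal.pPrimeCore_quotient_pPrimeCore 2 N) (f v')
        (by rw [e]; exact mem_mim_of v' hv) fun h => v1 (mem_bot.1 ((coprime_TI (cop2 ho F.abV.pg)).le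
          ⟨mem_mker.2 ⟨v'.2, h⟩, hv⟩))
      · have h2 := le_Op' (mim_Oc ho hf (v := v') (F.eV hv) (pcore_normal _ _)) (morphim_odd f (odd_Op' _))
          (mem_mim_of ⟨g, hg.2⟩ hg.1)
        exact hk.le (mem_mker.2 ⟨hg.2, mem_bot.1 (this.le h2)⟩)
      · refine (Nat.card_le_card_of_surjective f hf).trans_lt ?_
        rw [← hn, ← card_top (G := G)]
        exact proper_card hN.lt_top
  have st : Star (mim ψ TC) := fun r hr r2 D hD pD nD X hX pX nX => by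
    have := Fact.mk hr
    have hN : N[D] ≠ ⊤ := fun h => hD (le_bot_iff.1 ((le_Op' (h ▸ normalG D) (odd_pg r2 pD)).trans
      ((Op'_top 2).trans hO).le))
    exact coprime_abelian_gen_cent1 F.abV.abelian F.ncyc (F.VU.trans nX) (cop2 (odd_pg r2 pX) F.abV.pg)
      fun v hv v1 => (le_inf (C.oA v hv v1 _ inf_le_right (oddSg inf_le_left (odd_pg r2 pX))
        (normsI (F.AU.trans nX) (normsG (F.AcV hv)))) (inf_le_left.trans hX)).trans (sub _ hN nD v hv v1)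
  obtain ⟨S, hS, hU⟩ := Sylow_superset le_top F.pU
  by_cases tf : ∀ t ∈ S, t ∉ mim ψ TC → t * t = 1 → ∃ g, g * t * g⁻¹ ∈ mim ψ TC
  · exact fun v hv v1 => le_bot_iff.1 ((le_Wd hv v1).trans (F.fin C st hO hS hU tf).le)
  push Not at tf
  obtain ⟨t, ht, tU, t2, nf⟩ := tf
  obtain ⟨z, E⟩ := F.ext' hS.pg hU ht tU
  have hi : (mim ψ TC).relIndex S = 2 := by
    have := card_mul_relIndex hU
    rw [F.cU, E.cS] at this; omega
  obtain ⟨K, k1, k2, k3⟩ := exists_ker_top hS hU (comm_idx2 hi (F.SnU hS.pg hU) (normG S))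
  have inU : ∀ a ∈ mim ψ TC, a * a = 1 → a ∈ K := fun a ha a2 => (k3 a (hU ha) fun k g hg => by
    refine mul_mem (by_contra fun h => ?_) (inv_mem (pow_mem ha k))
    obtain ⟨c, e⟩ := E.cls t ht tU t2 _ hg h (by rw [← cmul, ← (Commute.refl a).mul_pow, a2]; simp)
    refine nf (g⁻¹ * c) ?_
    rw [show g⁻¹ * c * t * (g⁻¹ * c)⁻¹ = g⁻¹ * (c * t * c⁻¹) * g by group, e]
    simpa [mul_assoc] using pow_mem ha k).2 ha
  have hK : K ≠ ⊤ := fun h => tU ((k3 t ht fun k g hg => by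
    rcases Invol.zpow_invol t2 k with e | e <;> rw [zpow_natCast] at e <;> rw [e] at hg ⊢
    · simp
    · rw [Invol.mul_mem_iff_of_relIndex_two hi hg (inv_mem ht), inv_mem_iff]
      exact iff_of_false (nf g) tU).1 (h ▸ mem_top t))
  intro v hv v1
  have := (le_inf le_rfl fun g hg => k2 g (odd_elt (odd_Op' _) hg)).trans (sub K hK (F.sup ▸ sup_le
    (fun a ha => inU a (F.AU ha) (F.eA a ha)) fun a ha => inU a (F.symm.AU ha) (F.eB a ha)) v hv v1)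
  exact le_bot_iff.1 (this.trans ((pcoreS_normal _ (normal_top K)).trans ((Op'_top 2).trans hO).le))

end Cfsg.Agent.HJS
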