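import Cfsg.Agent.HJS.Norm
import Cfsg.Agent.Ico.Eq

/-! Groups with a Sylow 2-subgroup of type `J2`: the centralizer of a central involution (helper12). -/

set_option autoImplicit false
set_option linter.unusedSectionVars false

namespace Cfsg.Agent.HJS

open Subgroup Cfsg.Agent.BG Cfsg.Agent.HJ

theorem reg_equiv {A B : Type*} [Group A] [Group B] {H : Subgroup A} {K : Subgroup B} {N : ℕ} {mu : ℕ → ℕ → ℕ}
    {f : ℕ → A} {g : ℕ → B} (R : Reg H N mu f) (R' : Reg K N mu g) : Nonempty (H ≃* K) := by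
  choose c hc using fun h : H => R.surj h h.2
  let F : H →* K := MonoidHom.mk' (fun h => ⟨g (c h), R'.mem _ (hc h).1⟩) fun a b => Subtype.ext (by
    have h1 := R.mul _ (hc a).1 _ (hc b).1
    have h2 : c (a * b) = mu (c a) (c b) := R.inj _ (hc _).1 _ h1.1 (by rw [h1.2, (hc _).2, (hc _).2, (hc _).2]; rfl)
    show g (c (a * b)) = g (c a) * g (c b)
    rw [h2, (R'.mul _ (hc a).1 _ (hc b).1).2])
  refine ⟨MulEquiv.ofBijective F ⟨fun a b h => Subtype.ext ?_, fun k => ?_⟩⟩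
  · rw [← (hc a).2, ← (hc b).2, R'.inj _ (hc a).1 _ (hc b).1 (congrArg Subtype.val h)]
  · obtain ⟨d, hd, e⟩ := R'.surj k k.2
    refine ⟨⟨f d, R.mem d hd⟩, Subtype.ext ?_⟩
    show g (c _) = k
    rw [R.inj _ (hc _).1 _ hd (hc _).2, e]

instance instFinJ2 : Finite Spor.J2 := Nat.finite_of_card_ne_zero (by rw [Ico.card_J2]; norm_num)

theorem embJ2 : ∃ F : TG →* Spor.J2, Emb F ∧ ∀ {X : Type*} [Group X] [Finite X] {a x e s z t : X}, Loc a x e s z t →
    Nonempty (centralizer {z} ≃* centralizer {F tz}) := by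
  have := Ico.T.fin
  obtain ⟨a, x, e, s, t, L⟩ := loc0
  obtain ⟨F, h1, h2⟩ := emb L
  obtain ⟨ε, -⟩ := Ico.exists_equiv
  have hi : Function.Injective (ε.toMonoidHom.comp F) := ε.injective.comp h1
  refine ⟨ε.toMonoidHom.comp F, ⟨hi, ?_⟩, fun M => ?_⟩
  · have := (ε.toMonoidHom.comp F).range.card_mul_index
    rw [← Nat.card_congr (MonoidHom.ofInjective hi).toEquiv, card_TG, Ico.card_J2] at this
    omega
  · obtain ⟨f, R, -⟩ := M.reg
    obtain ⟨g, R', -⟩ := L.reg
    obtain ⟨i⟩ := reg_equiv R R'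
    have k : (centralizer {Ico.T.z}).map ε.toMonoidHom = centralizer {ε.toMonoidHom.comp F tz} := Subgroup.ext fun y => by
      rw [mem_map_equiv, mem_centralizer_singleton_iff, mem_centralizer_singleton_iff,
        ← ε.injective.eq_iff, map_mul, map_mul, ε.apply_symm_apply, ← h2]
      rfl
    exact ⟨i.trans ((ε.subgroupMap _).trans (MulEquiv.subgroupCongr k))⟩

variable {G : Type*} [Group G] [Finite G]

theorem exists_emb (S : Sylow 2 G) (P : Sylow 2 Spor.J2) (hS : Nonempty ((S : Subgroup G) ≃* (P : Subgroup Spor.J2))) :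
    ∃ φ : TG →* G, Emb φ ∧ φ.range = S := by
  have := Nat.fact_prime_two
  obtain ⟨F, E, -⟩ := embJ2.{0}
  obtain ⟨P', hP'⟩ := sylow_of_sylowIn_top E.syl
  obtain ⟨e⟩ := hS
  let i : TG ≃* (S : Subgroup G) := ((MonoidHom.ofInjective E.inj).trans (MulEquiv.subgroupCongr hP'.symm)).trans
    ((P'.equiv P).trans e.symm)
  have hr : ((S : Subgroup G).subtype.comp i.toMonoidHom).range = S := by
    rw [MonoidHom.range_comp, MonoidHom.range_eq_top.2 i.surjective, ← MonoidHom.range_eq_map, range_subtype]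
  exact ⟨_, ⟨(subtype_injective _).comp i.injective, by rw [hr]; exact S.not_dvd_index⟩, hr⟩

theorem Emb.core {φ : TG →* G} (E : Emb φ) (h2 : ∀ H : Subgroup G, H.index ≠ 2) :
    ∃ z a x e s t : centralizer {φ tz} ⧸ oddCore (centralizer {φ tz}), centralizer {z} = ⊤ ∧ Loc a x e s z t ∧
      z = QuotientGroup.mk ⟨φ tz, mem_cent1.2 rfl⟩ := by
  set H := centralizer {φ tz}
  let φ' : TG →* H := φ.codRestrict H fun c => mem_cent1.2 ((zc c).map φ)
  let ρ := QuotientGroup.mk' (oddCore H)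
  have hρ : Function.Surjective ρ := QuotientGroup.mk'_surjective _
  have E' : Emb (ρ.comp φ') := by
    refine ⟨(injective_iff_map_eq_one _).2 fun c hc => ?_, fun h => E.odd ?_⟩
    · have h1 : orderOf (φ' c) ∣ 2 ^ 7 := (orderOf_map_dvd φ' c).trans
        (by rw [show 2 ^ 7 = Nat.card TG from card_TG.symm]; exact orderOf_dvd_natCard c)
      have h2 := Nat.eq_one_of_dvd_coprimes ((Solv.coprime_card_pPrimeCore 2 _).pow_right 7)
        (Subgroup.orderOf_dvd_natCard _ ((QuotientGroup.eq_one_iff _).1 hc)) h1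
      exact E.eq1.1 (congrArg Subtype.val (orderOf_eq_one_iff.1 h2))
    · rw [MonoidHom.range_comp] at h
      have h3 : φ.range = φ'.range.map H.subtype := by rw [← MonoidHom.range_comp]; rfl
      rw [h3, index_map_subtype]
      exact (h.trans (index_map_dvd _ hρ)).mul_right _
  have hz : ∀ g, g * (ρ.comp φ') tz * g⁻¹ = (ρ.comp φ') tz := fun g => by
    obtain ⟨g, rfl⟩ := hρ g
    rw [MonoidHom.comp_apply, ← map_inv, ← map_mul, ← map_mul]
    exact congrArg ρ (Subtype.ext (mul_inv_eq_iff_eq_mul.2 (mem_cent1.1 g.2)))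
  obtain ⟨h, h1, h3⟩ := E.fuse h2
  let h' : H := ⟨h, mem_cent1.2 (mul_inv_eq_iff_eq_mul.1 h1)⟩
  have tr : ∀ {a b : TG}, h * φ a * h⁻¹ = φ b → ρ h' * (ρ.comp φ') a * (ρ h')⁻¹ = (ρ.comp φ') b := fun e => by
    rw [MonoidHom.comp_apply, ← map_inv, ← map_mul, ← map_mul]
    exact congrArg ρ (Subtype.ext e)
  obtain ⟨hc, a, x, e, s, t, L⟩ := E'.loc hz (PLocal.pPrimeCore_quotient_pPrimeCore 2 H) (h3.imp tr tr)
  exact ⟨_, a, x, e, s, t, hc, L, rfl⟩

end Cfsg.Agent.HJS
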