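import Cfsg.Agent.HJS.G6
import Cfsg.Agent.HJS.Main

/-! A simple group with a Sylow 2-subgroup of type `J2` (helper12). -/

set_option autoImplicit false
set_option linter.unusedSectionVars false
set_option maxRecDepth 100000

namespace Cfsg.Agent.HJS

open Subgroup Cfsg.Agent.BG Equiv

theorem AC : TA ≤ TC := fun a => (g_AB a).2.1
theorem BC : TB ≤ TC := fun a h => ((g_AB a).2.2 h).1
theorem g_cov : ∀ w ∈ TA, w ∉ TV → ∀ y ∈ TA, y ∉ TV → w * y ∉ TV → ∀ c ∈ TA,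
    c ∈ TV ∨ w⁻¹ * c ∈ TV ∨ y⁻¹ * c ∈ TV ∨ (w * y)⁻¹ * c ∈ TV := by decide +kernel
theorem g_t : tt ∉ TC ∧ ts ∉ TV ⊓ ⊥ ∧ ∀ c ∈ TC, Commute c ts := by
  simp only [mem_inf, mem_bot]; decide +kernel

variable {G : Type*} [Group G] [Finite G] {φ : TG →* G}

theorem mim_res (φ : TG →* G) {H : Subgroup TG} (h : H ≤ TC) : mim (φ.comp TC.subtype) H = H.map φ := by
  rw [mim, ← map_map, subgroupOf_map_subtype, inf_eq_left.2 h]

theorem fr_TG : Fr TV TA TB TC := by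
  have e : ∀ {H : Subgroup TG}, H ≤ TC → mim ((MonoidHom.id TG).comp TC.subtype) H = H := fun h => by
    rw [mim_res _ h, map_id]
  have M : Md ((MonoidHom.id TG).comp TC.subtype) := ⟨Subtype.val_injective, fun S hS h => ⟨MonoidHom.id _,
    Function.injective_id, ?_, by rw [e le_rfl, map_id], by rw [e AC, map_id], by rw [e BC, map_id]⟩⟩
  · simpa only [e le_rfl, e AC, e BC, e (V_le_A.trans AC)] using M.fr
  rw [e le_rfl] at h
  have h1 := proper_card h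
  have h2 := card_subgroup_dvd_card S
  rw [card_TC] at h1
  rw [card_TG] at h2
  refine (eq_of_card_le (S.map_id ▸ map_le_range _ S) ?_).symm
  rw [MonoidHom.range_eq_map, map_id, card_top, card_TG]
  obtain ⟨k, hk⟩ := h2
  rcases k with _ | _ | k <;> nlinarith

namespace Emb
variable (E : Emb φ)
include E

theorem e16 {X : Subgroup G} (h : X ≤ φ.range) (ab : Abelem 2 X) (c : #X = 16) : X = TA.map φ ∨ X = TB.map φ := by
  have := Nat.fact_prime_two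
  obtain ⟨Y, -, rfl⟩ := lift_map (M := ⊤) (f := φ) (MonoidHom.range_eq_map φ ▸ h)
  exact (fr_TG.e16 (pgroup_of_card (k := 7) (card_top.trans card_TG)) le_top le_top ((abelem_map_inj E.inj).1 ab)
    (by rwa [E.card_map] at c)).imp (congrArg _) (congrArg _)

theorem tA : cj (φ tt) (TA.map φ) = TB.map φ := by rw [← map_cj]; rfl
theorem tB : cj (φ tt) (TB.map φ) = TA.map φ := by
  rw [← E.tA, ← cj_mul, ← map_mul, xt8.2.1, map_one, cj_one]

theorem perm {h : G} (hh : cj h (TC.map φ) ≤ φ.range) : cj h (TA.map φ) = TA.map φ ∧ cj h (TB.map φ) = TB.map φ ∨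
    cj h (TA.map φ) = TB.map φ ∧ cj h (TB.map φ) = TA.map φ := by
  have h1 := E.e16 ((cj_mono h (map_mono AC)).trans hh) (abelemJ h (abelem_map φ fr_TG.ab))
    (by rw [card_cj, E.card_map, card_A])
  have h2 := E.e16 ((cj_mono h (map_mono BC)).trans hh) (abelemJ h (abelem_map φ fr_TG.symm.ab))
    (by rw [card_cj, E.card_map, card_B])
  have ne : cj h (TA.map φ) ≠ cj h (TB.map φ) := fun e => fr_TG.ne (map_injective E.inj (cj_inj.1 e))
  rcases h1 with h1 | h1 <;> rcases h2 with h2 | h2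
  exacts [absurd (h1.trans h2.symm) ne, .inl ⟨h1, h2⟩, .inr ⟨h1, h2⟩, absurd (h1.trans h2.symm) ne]

theorem md : Md (φ.comp TC.subtype) := by
  have := Nat.fact_prime_two
  refine ⟨E.inj.comp Subtype.val_injective, fun S hS hlt => ?_⟩
  rw [mim_res φ le_rfl] at hlt ⊢
  rw [mim_res φ AC, mim_res φ BC]
  obtain ⟨h, -, hh⟩ := Sylow_subJ E.syl le_top hS
  have e : S = cj h φ.range := by
    have h1 := proper_card hlt
    obtain ⟨k, hk⟩ := cardSg hh
    refine eq_of_card_le hh ?_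
    rw [E.card_map, card_TC] at h1
    rw [card_cj, E.card_range] at hk ⊢
    rcases k with _ | _ | k <;> nlinarith
  obtain ⟨k, h1, h2, h3⟩ : ∃ k, cj k (TA.map φ) = TA.map φ ∧ cj k (TB.map φ) = TB.map φ ∧ cj k φ.range = S := by
    rcases E.perm (le_cj_iff.1 (hlt.le.trans hh)) with ⟨a, b⟩ | ⟨a, b⟩
    · exact ⟨h, by rw [cj_eq_iff, a], by rw [cj_eq_iff, b], e.symm⟩
    · exact ⟨h * φ tt, by rw [cj_mul, E.tA, cj_eq_iff, a], by rw [cj_mul, E.tB, cj_eq_iff, b],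
        by rw [cj_mul, cj_of_mem (show φ tt ∈ φ.range from ⟨_, rfl⟩), e]⟩
  refine ⟨(MulAut.conj k).toMonoidHom.comp φ, (conj_injective k).comp E.inj, ?_, ?_, ?_, ?_⟩
  · rw [MonoidHom.range_comp]; exact h3
  · rw [← map_map, ← cj_def, ← fr_TG.sup, Subgroup.map_sup, cj_sup, h1, h2]
  · rw [← map_map]; exact h1
  · rw [← map_map]; exact h2

theorem fr : Fr (TV.map φ) (TA.map φ) (TB.map φ) (TC.map φ) := by
  simpa only [mim_res φ le_rfl, mim_res φ AC, mim_res φ BC, mim_res φ (V_le_A.trans AC)] using E.md.fr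

theorem odd_bot (hz : ∀ g : G, g * φ tz * g⁻¹ = φ tz) (hO : pPrimeCore 2 G = ⊥) {Y : Subgroup G} (o : Odd #Y)
    (n : TA.map φ ≤ N[Y]) : Y = ⊥ := by
  have := E.normal hz hO
  obtain ⟨π, hπ⟩ := E.exists_pi hz
  have hN : N[TQ.map φ] = ⊤ := normalizer_eq_top _
  have cj' : ∀ k ∈ TA, ∀ τ : Perm (Fin 5), (∀ i, PMs φ (φ k) i (τ i)) → ∀ σ ∈ mim π Y, τ * σ * τ⁻¹ ∈ mim π Y :=
    fun k hk τ h σ hσ => by
      have : π ⟨φ k, E.T_norm k⟩ = τ := Equiv.ext fun i => E.pms_uniq (hπ _ i) (h i)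
      exact this ▸ conj_mem_of_norm (morphim_norms π n (mem_mim_of _ (mem_map_of_mem φ hk))) hσ
  refine (eq_bot_iff_forall _).2 fun y hy => ?_
  have h1 := s5_odd (mim π Y) (cj' tx (by decide +kernel) px fun i => E.pms_in (sv_x i))
    (cj' ty (by decide +kernel) py fun i => E.pms_in (sv_y i))
    (fun σ hσ => eq_one_of_sq (odd_elt (morphim_odd π o) hσ)) (mem_mim_of ⟨y, hN ▸ mem_top y⟩ hy)
  obtain ⟨q, hq, h4⟩ := E.cent_of_fix hz (m := y) fun i => by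
    have := hπ ⟨y, hN ▸ mem_top y⟩ i
    rwa [h1] at this
  refine mem_bot.1 ((coprime_TI (cop2 o (E.pg' TQ))).le ⟨hy, ?_⟩)
  rw [show y = φ q * ((φ q)⁻¹ * y) by simp]
  refine mul_mem (mem_map_of_mem φ hq) ?_
  rcases E.cent_Q hz hO h4 with h | h <;> rw [h]
  · exact one_mem _
  · exact mem_map_of_mem φ (V_le_Q t_facts.2.2.2.2.2.2.2.2.2.2)

theorem rc : φ.range ≤ C1[φ tz] := by
  rintro - ⟨c, rfl⟩
  exact mem_cent1.2 ((zc c).map φ)

theorem loc_emb {X : Type*} [Group X] [Finite X] (f : C1[φ tz] →* X) (hf : Function.Surjective f) (ho : Odd #(mker f)) :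
    ∃ h, Emb (f.comp (φ.codRestrict C1[φ tz] h)) ∧ ∀ g, g * (f.comp (φ.codRestrict C1[φ tz] h)) tz * g⁻¹ =
      (f.comp (φ.codRestrict C1[φ tz] h)) tz := by
  have := Nat.fact_prime_two
  have h : ∀ c, φ c ∈ C1[φ tz] := fun c => mem_cent1.2 ((zc c).map φ)
  refine ⟨h, ⟨inj_comp_cod ho φ h E.inj E.pg, ?_⟩, fun g => ?_⟩
  · have := morphim_pHall f le_rfl (pHall_subl E.rc le_top E.syl)
    rw [morphim_dom, MonoidHom.range_eq_top.2 hf] at this
    rw [MonoidHom.range_eq_map, map_comp_cod, ← MonoidHom.range_eq_map]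
    simpa using this.not_dvd
  · obtain ⟨g, rfl⟩ := hf g
    rw [MonoidHom.comp_apply, ← map_inv, ← map_mul, ← map_mul]
    exact congrArg f (Subtype.ext (mul_inv_eq_iff_eq_mul.2 (mem_cent1.1 g.2)))

end Emb

def At (V A B : Subgroup G) (v : G) : Prop :=
  (∀ X : Subgroup G, X ≤ C1[v] → Odd #X → A ≤ N[X] → X ≤ Oc v) ∧
  (∀ X : Subgroup G, X ≤ C1[v] → Odd #X → B ≤ N[X] → X ≤ Oc v) ∧
  ∃ Y, V ≤ Y ∧ Y ⊴ C1[v] ∧ ∀ y ∈ Y, Odd (orderOf y) → y ∈ Oc v

theorem oJ {A : Subgroup G} {v : G} (h : ∀ X : Subgroup G, X ≤ C1[v] → Odd #X → A ≤ N[X] → X ≤ Oc v) (g : G)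
    (X : Subgroup G) (h1 : X ≤ C1[g * v * g⁻¹]) (h2 : Odd #X) (h3 : cj g A ≤ N[X]) : X ≤ Oc (g * v * g⁻¹) := by
  rw [OcJ, le_cj_iff]
  exact h _ (by rwa [← le_cj_iff, ← C1_conj]) (by rwa [card_cj]) (by rwa [N_cj, ← cj_le_iff])

theorem At.cj {V A B : Subgroup G} {v : G} (h : At V A B v) (g : G) : At (cj g V) (cj g A) (cj g B) (g * v * g⁻¹) := by
  obtain ⟨h1, h2, Y, y1, y2, y3⟩ := h
  refine ⟨oJ h1 g, oJ h2 g, _, cj_mono g y1, C1_conj g v ▸ y2.cj g, fun y hy o => ?_⟩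
  rw [OcJ, mem_cj]
  exact y3 _ (mem_cj.1 hy) (by rwa [← orderOf_conj' g⁻¹, inv_inv] at o)

namespace Emb
variable (E : Emb φ)
include E

theorem at_z : At (TV.map φ) (TA.map φ) (TB.map φ) (φ tz) := by
  have := Nat.fact_prime_two
  let f := QuotientGroup.mk' (pPrimeCore 2 C1[φ tz])
  have hf : Function.Surjective f := QuotientGroup.mk'_surjective _
  have hk : mker f = Oc (φ tz) := by rw [mker, QuotientGroup.ker_mk', Oc, Op'_eq]
  obtain ⟨h, E', hz⟩ := E.loc_emb f hf (hk ▸ odd_Op' _)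
  have hO := PLocal.pPrimeCore_quotient_pPrimeCore 2 C1[φ tz]
  have h1 : ∀ X : Subgroup G, X ≤ C1[φ tz] → Odd #X → TA.map φ ≤ N[X] → X ≤ Oc (φ tz) := fun X a b c =>
    hk ▸ (morphim_eq_bot a).1 (E'.odd_bot hz hO (morphim_odd f b) (by rw [map_comp_cod]; exact morphim_norms f c))
  have := E'.normal hz hO
  refine ⟨h1, ?_, mpre f (TQ.map (f.comp (φ.codRestrict _ h))), (sub_morphim_pre ((map_le_range _ _).trans E.rc)).1 (by
    rw [map_comp_cod]; exact morphimS f (map_mono V_le_Q)), ⟨morphpre_sub _ _, norms_morphpre le_rfl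
      (norm_of_normal _ _)⟩, fun y hy o => ?_⟩
  · have := oJ h1 (φ tt)
    rwa [E.tA, E.tr_in, (zc tt).eq, mul_inv_cancel_right] at this
  · obtain ⟨hy, m⟩ := mem_mpre.1 hy
    exact hk.le (mem_mker.2 ⟨hy, p_elt_eq_one (mem_p_elt (E'.pg' TQ).pi m) (pnat_odd.2 (o.of_dvd_nat
      ((orderOf_map_dvd f _).trans (orderOf_coe (⟨y, hy⟩ : C1[φ tz])).symm.dvd)))⟩)

theorem zs_of {w : TG} (hw : w ∈ TA) (wV : w ∉ TV) {n : G} (hn : cj n (TA.map φ) = TA.map φ)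
    (e : n * φ tz * n⁻¹ = φ w) : IsConj (φ tz) (φ ts) := by
  obtain ⟨tQ, t1, tz', tst, rt, rs, sV, s1, sz, ss, zV⟩ := t_facts
  by_contra hc
  have zA := V_le_A zV
  have sA := V_le_A sV
  have hc' : ¬ IsConj (φ tz) (φ (ts * tz)) := fun h => hc (h.trans (isConj_iff.2 ⟨_, tst ▸ E.tr_in tt ts⟩).symm)
  have mv : ∀ c ∈ TA, c ∉ TV → ∀ d, c⁻¹ * d ∈ TV → IsConj (φ c) (φ d) := fun c h1 h2 d h3 => by
    obtain ⟨b, -, e⟩ := g_mov c (AC h1) h2 _ h3
    exact isConj_iff.2 ⟨φ b, by rw [E.tr_in, e, mul_inv_cancel_left]⟩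
  have zw : IsConj (φ tz) (φ w) := isConj_iff.2 ⟨n, e⟩
  have im : ∀ a ∈ TA, ∃ a' ∈ TA, n * φ a * n⁻¹ = φ a' := fun a ha => by
    obtain ⟨a', h1, h2⟩ := hn.le (conj_mem_cj n (mem_map_of_mem φ ha))
    exact ⟨a', h1, h2.symm⟩
  have cn : ∀ {a a' : TG}, n * φ a * n⁻¹ = φ a' → IsConj (φ a) (φ a') := fun h => isConj_iff.2 ⟨n, h⟩
  obtain ⟨y, yA, hy⟩ := im ts sA
  have hy' := E.tr_mul e hy
  rw [← (zc ts).eq] at hy'
  have n1 : ¬ IsConj (φ tz) (φ y) := fun h => hc (h.trans (cn hy).symm)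
  have n2 : ¬ IsConj (φ tz) (φ (w * y)) := fun h => hc' (h.trans (cn hy').symm)
  have yV : y ∉ TV := fun h => n2 (zw.trans (mv w hw wV _ (by simpa using h)))
  have wyV : w * y ∉ TV := fun h => n1 (zw.trans (mv w hw wV _ (by rwa [inv_eq_of_mul_eq_one_right (A_sq w hw)])))
  have cl : ∀ c ∈ TA, IsConj (φ tz) (φ c) → c = tz ∨ w⁻¹ * c ∈ TV := fun c h1 h2 => by
    rcases g_cov w hw wV y yA yV wyV c h1 with h | h | h | h
    · rcases (memV c).1 h with rfl | rfl | rfl | rfl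
      · exact absurd (E.eq1.1 (by simpa using h2)) z1
      exacts [.inl rfl, absurd h2 hc, absurd h2 hc']
    · exact .inr h
    · exact absurd (h2.trans (mv y yA yV c h).symm) n1
    · exact absurd (h2.trans (mv _ (mul_mem hw yA) wyV c h).symm) n2
  have key : ∀ a ∈ TA, w⁻¹ * a ∈ TV → ∃ c, n * φ a * n⁻¹ = φ c ∧ (c = tz ∨ w * c = tz) := fun a ha h => by
    obtain ⟨c, h1, h2⟩ := im a ha
    refine ⟨c, h2, (cl c h1 (zw.trans ((mv w hw wV a h).trans (cn h2)))).imp_right fun h3 => ?_⟩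
    refine (cl _ (mul_mem hw h1) (zw.trans ((mv w hw wV _ ?_).trans (cn (E.tr_mul e h2))))).resolve_right fun h4 => wV ?_
    · rw [← (zc a).eq, ← mul_assoc]; exact mul_mem h zV
    · rw [inv_mul_cancel_left] at h4
      simpa using mul_mem h4 (inv_mem h3)
  obtain ⟨a, a1, a2⟩ := key w hw (by simp)
  obtain ⟨b, b1, b2⟩ := key (w * ts) (mul_mem hw sA) (by simpa using sV)
  have ne : a ≠ b := fun h => s1 (by simpa using ((E.tr_eq a1 b1).1 h).symm)
  have w2 := A_sq w hw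
  have fin : ∀ {a b : TG}, a = tz → w * b = tz → a * b = w := fun h1 h2 => by
    rw [h1, ← mul_right_inj w, ← mul_assoc, (zc w).eq, mul_assoc, h2, zz, w2]
  have h5 : a * b = w := by
    rcases a2 with a2 | a2 <;> rcases b2 with b2 | b2
    · exact absurd (a2.trans b2.symm) ne
    · exact fin a2 b2
    · rw [← fin b2 a2, b2, (zc a).eq]
    · exact absurd (mul_left_cancel (a2.trans b2.symm)) ne
  have := (E.tr_eq (E.tr_mul a1 b1) e).1 h5
  rw [← mul_assoc, w2, one_mul] at this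
  exact sz this

theorem no2 [IsSimpleGroup G] (H : Subgroup G) : H.index ≠ 2 := fun h => by
  rcases (normal_of_index_eq_two h).eq_bot_or_eq_top with rfl | rfl
  · have := card_subgroup_dvd_card φ.range
    rw [E.card_range, ← index_bot, h] at this
    omega
  · simp at h

theorem zs [IsSimpleGroup G] : IsConj (φ tz) (φ ts) := by
  have := Nat.fact_prime_two
  obtain ⟨tQ, t1, tz', tst, rt, rs, sV, s1, sz, ss, zV⟩ := t_facts
  have F := E.fr
  have z2 : φ tz * φ tz = 1 := by rw [← map_mul, zz, map_one]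
  have hz := ord2 z2 (mt E.eq1.1 z1)
  have h128 := card_subgroup_dvd_card φ.range
  rw [E.card_range] at h128
  obtain ⟨g, hc, hne⟩ : ∃ g, Commute (φ tz) (g * φ tz * g⁻¹) ∧ g * φ tz * g⁻¹ ≠ φ tz := by
    by_contra h
    push Not at h
    have := Block.zstar_center ⟨hz, h⟩ (SE.oddCore_simple (even_iff_two_dvd.2 (dvd_trans (by omega) h128)))
    have hn : (zpowers (φ tz)).Normal := (sub_center_normal (M := ⊤) (by rw [center_top]; exact zpowers_le.2 this)).normal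
    rcases hn.eq_bot_or_eq_top with e | e
    · exact z1 (E.eq1.1 (zpowers_eq_bot.1 e))
    · rw [← card_top, ← e, Nat.card_zpowers, hz] at h128; omega
  obtain ⟨c, hc', e⟩ := Sylow_Jsub (pHall_subl E.rc le_top E.syl)
    (zpowers_le.2 (mem_cent1.2 hc.symm)) (pg_zp (by rw [← cmul, z2]; simp))
  obtain ⟨w, hw⟩ := e (conj_mem_cj c (mem_zpowers _))
  have cz : c * φ tz * c⁻¹ = φ tz := mul_inv_eq_iff_eq_mul.2 (mem_cent1.1 hc')
  have h1 : c * g * φ tz * (c * g)⁻¹ = φ w := by rw [hw]; group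
  have wz : w ≠ tz := by rintro rfl; exact hne (cinj.1 (hw.symm.trans cz.symm))
  have w2 := (E.tr_sq h1).2 zz
  have zw : IsConj (φ tz) (φ w) := isConj_iff.2 ⟨_, h1⟩
  have s' : IsConj (φ ts) (φ (ts * tz)) := isConj_iff.2 ⟨_, tst ▸ E.tr_in tt ts⟩
  by_cases wV : w ∈ TV
  · rcases (memV w).1 wV with rfl | rfl | rfl | rfl
    · exact absurd ((E.tr_eq1 h1).1 rfl) z1
    exacts [absurd rfl wz, zw, zw.trans s'.symm]
  by_cases wC : w ∈ TC
  · obtain ⟨k, hk⟩ := to_A w w2 fun h => wV (by revert h wC w2; clear * -; revert w; decide +kernel)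
    have h2 := E.tr_comp h1 (E.tr_in k w)
    have kV : k * w * k⁻¹ ∉ TV := fun h => wV (by simpa [mul_assoc] using V_conj k⁻¹ _ h)
    have h3 := E.tr_inv h2
    obtain ⟨h, e1, e2⟩ := F.fusedA (mem_map_of_mem φ hk) (h3 ▸ mem_map_of_mem φ zV)
    rw [h3] at e1
    rcases e2 with e2 | e2
    · exact E.zs_of hk kV (n := h⁻¹) (by rw [← cj_eq_iff.1 e2]) (E.tr_inv e1)
    · have e3 := E.tr_comp e1 (E.tr_in tt tz)
      rw [(zc tt).eq, mul_inv_cancel_right] at e3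
      exact E.zs_of hk kV (n := (φ tt * h)⁻¹) (by rw [← cj_eq_iff.1 (by rw [cj_mul, e2, E.tB])]) (E.tr_inv e3)
  · obtain ⟨k, hk⟩ := g_cls w wC w2 tt g_t.1 xt8.2.1
    obtain ⟨h, -, h3⟩ := E.fuse E.no2
    have := zw.trans (isConj_iff.2 ⟨_, hk ▸ E.tr_in k w⟩)
    exact h3.elim (fun h => this.trans (isConj_iff.2 ⟨_, h⟩)) fun h => this.trans ((isConj_iff.2 ⟨_, h⟩).trans s'.symm)

theorem lc [IsSimpleGroup G] : Lc (TV.map φ) (TA.map φ) (TB.map φ) := by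
  obtain ⟨tQ, t1, tz', tst, rt, rs, sV, s1, sz, ss, zV⟩ := t_facts
  have F := E.fr
  have tr : ∀ (h v : G), At (TV.map φ) (TA.map φ) (TB.map φ) v → cj h (TC.map φ) ≤ φ.range →
      At (TV.map φ) (TA.map φ) (TB.map φ) (h * v * h⁻¹) := fun h v a hh => by
    have := a.cj h
    rw [← F.inf, cj_inf] at this
    rcases E.perm hh with ⟨h1, h2⟩ | ⟨h1, h2⟩ <;> rw [h1, h2] at this
    · exact F.inf ▸ this
    · rw [inf_comm, F.inf] at this
      exact ⟨this.2.1, this.1, this.2.2⟩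
  obtain ⟨g, hg⟩ := isConj_iff.1 E.zs
  obtain ⟨e, g1, g2, m1, m2⟩ := E.ext hg
  obtain rfl : e = tz := (O8_eq e ((E.tr_sq m1.1).2 zz) (E.mv_O8 m1 O8_z)).resolve_left (mt (E.tr_eq1 m1.1).1 z1)
  have h1 : cj g2 (TC.map φ) ≤ φ.range := by
    rintro - ⟨-, ⟨c, hc, rfl⟩, rfl⟩
    obtain ⟨c', h⟩ := m2.2 c (g_t.2.2 c hc)
    exact ⟨c', h.symm⟩
  have h2 : cj g2 (TC.map φ) = TC.map φ := by
    rw [← F.sup, cj_sup]
    rcases E.perm h1 with ⟨h1, h2⟩ | ⟨h1, h2⟩ <;> rw [h1, h2]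
    exact sup_comm _ _
  have a1 := tr g2⁻¹ _ E.at_z (by rw [← cj_eq_iff.1 h2]; exact map_le_range _ _)
  rw [E.tr_inv m2.1] at a1
  have a2 := tr (φ tt) _ a1 (cj_le_of_mem ⟨_, rfl⟩ (map_le_range _ _))
  rw [E.tr_in, tst] at a2
  have all : ∀ v ∈ TV.map φ, v ≠ 1 → At (TV.map φ) (TA.map φ) (TB.map φ) v := by
    rintro - ⟨v, hv, rfl⟩ v1
    rcases (memV v).1 hv with rfl | rfl | rfl | rfl
    exacts [absurd (map_one φ) v1, E.at_z, a1, a2]
  exact ⟨fun v h h1 => (all v h h1).1, fun v h h1 => (all v h h1).2.1, fun v h h1 => (all v h h1).2.2⟩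

theorem out [IsSimpleGroup G] : HJ.Out G (φ tz) := by
  have := Nat.fact_prime_two
  obtain ⟨tQ, t1, tz', tst, rt, rs, sV, s1, sz, ss, zV⟩ := t_facts
  have h128 := card_subgroup_dvd_card φ.range
  rw [E.card_range] at h128
  have h0 := main_ind _ G (φ.comp TC.subtype) rfl E.md (by
    simpa only [mim_res φ AC, mim_res φ BC, mim_res φ (V_le_A.trans AC)] using E.lc)
    (SE.oddCore_simple (even_iff_two_dvd.2 (dvd_trans (by omega) h128))) (φ tz)
    (by rw [mim_res φ (V_le_A.trans AC)]; exact mem_map_of_mem φ zV) (mt E.eq1.1 z1)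
  have hO : pPrimeCore 2 C1[φ tz] = ⊥ := by
    rwa [Oc, Op'_eq, map_eq_bot_iff_of_injective _ (subtype_injective _)] at h0
  obtain ⟨h, E', hz⟩ := E.loc_emb (MonoidHom.id _) Function.surjective_id (by simp [mker])
  obtain ⟨c, c1, c2⟩ := E.fuse E.no2
  have hc := E'.card hz hO (h := ⟨c, mem_cent1.2 (mul_inv_eq_iff_eq_mul.1 c1)⟩)
    (c2.imp (fun e => Subtype.ext e) fun e => Subtype.ext e)
  have hN := E'.normal hz hO
  have zQ := V_le_Q zV
  have cQ : ∀ x, (∀ y ∈ TQ.map φ, Commute x y) → x = 1 ∨ x = φ tz := fun x hx =>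
    (E'.cent_Q hz hO (x := ⟨x, mem_cent1.2 (hx _ (mem_map_of_mem φ zQ))⟩) (by
      rintro - ⟨q, hq, rfl⟩; exact Subtype.ext (hx _ (mem_map_of_mem φ hq)).symm)).imp
      (congrArg Subtype.val) (congrArg Subtype.val)
  refine HJ.master (Q := TQ.map φ) ⟨⟨ord2 (by rw [← map_mul, zz, map_one]) (mt E.eq1.1 z1), mem_map_of_mem φ zQ,
    ?_, fun x _ => cQ x, ?_, ?_, ?_⟩, cQ, fun x hx => mem_norm_of_cj_le ?_⟩ (by rw [E.card_map, card_Q]) hc
    (h ts) (mt E.eq.1 sz) E.zs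
  · rintro - ⟨a, ha, rfl⟩
    exact (zc a).map φ
  · rintro - ⟨a, ha, rfl⟩ - ⟨b, hb, rfl⟩
    rw [E.tr_in, ← map_mul, E.eq, E.eq]
    exact Q_comm a ha b hb
  · rintro - ⟨a, ha, rfl⟩
    rw [← map_mul, E.eq1, E.eq]
    exact Q_sq a ha
  · obtain ⟨a, ha, b, hb, h⟩ := Q_nab
    exact ⟨_, mem_map_of_mem φ ha, _, mem_map_of_mem φ hb, fun c => h (E.eq.1 (by rw [map_mul, map_mul]; exact c))⟩
  · rintro - ⟨-, ⟨q, hq, rfl⟩, rfl⟩
    obtain ⟨q', h1, h2⟩ := hN.conj_mem _ (mem_map_of_mem _ hq) ⟨x, mem_cent1.2 hx⟩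
    exact ⟨q', h1, congrArg Subtype.val h2⟩

end Emb

end Cfsg.Agent.HJS
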