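import Cfsg.Agent.HJS.Fus
import Cfsg.Agent.S2775

/-! Groups with a Sylow 2-subgroup of type `J2` and central involution: `Q = 2^{1+4}` is normal modulo the core
(helper12). -/

set_option autoImplicit false
set_option linter.unusedSectionVars false
set_option maxRecDepth 100000

namespace Cfsg.Agent.HJS

open Subgroup Cfsg.Agent.BG Equiv

theorem gold_omega {G : Type*} [Group G] [Finite G] (S : Sylow 2 G) (A : Subgroup G) (hA : IsMulCommutative A)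
    (hsc : IsStronglyClosed A S) (h2 : ∀ a ∈ A, a ^ 2 = 1) {w : G} (hw : w ∈ (S : Subgroup G))
    (hK : w ∈ normalClosure (A : Set G)) (w2 : w ^ 2 = 1) : w ∈ A := by
  have := Nat.fact_prime_two
  set K := normalClosure (A : Set G)
  let π := QuotientGroup.mk' (pPrimeCore 2 K)
  have hπ : Function.Surjective π := QuotientGroup.mk'_surjective _
  obtain ⟨-, -, ⟨T, -, hT⟩, -⟩ := S2775.result S A hA hsc K rfl _ π hπ (QuotientGroup.ker_mk' _)
  obtain ⟨P, hP⟩ := sylow_of_sylowIn (Sylow_setI_normal (normal_top K) (sylowIn_top S))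
  have mP : ∀ {a : K}, (a : G) ∈ (S : Subgroup G) → a ∈ (P : Subgroup K) := fun {a} ha =>
    (mem_map_iff_mem K.subtype_injective).1 (hP.ge (mem_inf.2 ⟨a.2, ha⟩))
  obtain ⟨g, -, hg⟩ := Sylow_trans (sylowIn_top (P.mapSurjective hπ)) (sylowIn_top T)
  rw [Sylow.coe_mapSurjective] at hg
  have h1 : cj g (omegaOne 2 ((P : Subgroup K).map π)) ≤ (A.subgroupOf K).map π := by
    rw [omegaOne, cj_closure, closure_le]
    rintro - ⟨y, ⟨y1, y2⟩, rfl⟩
    refine (hT.ge (mem_sup_right (subset_closure ⟨?_, ?_⟩)) :)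
    · rw [hg]; exact conj_mem_cj g y1
    · rw [conj_pow, y2]; simp
  have h3 : (A.subgroupOf K).map π ≤ omegaOne 2 ((P : Subgroup K).map π) := by
    rintro - ⟨a, ha, rfl⟩
    refine subset_closure ⟨mem_map_of_mem π (mP (hsc.1 ha)), ?_⟩
    rw [← map_pow, show a ^ 2 = 1 from Subtype.ext (h2 a ha), map_one]
  have h4 := eq_of_le_of_card_ge h3 (by rw [← card_cj g]; exact card_le_of_le h1)
  obtain ⟨a, ha, e⟩ := h4.ge (subset_closure ⟨mem_map_of_mem π (mP (a := ⟨w, hK⟩) hw), by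
    rw [← map_pow, show (⟨w, hK⟩ : K) ^ 2 = 1 from Subtype.ext w2, map_one]⟩)
  have h5 : a⁻¹ * ⟨w, hK⟩ ∈ pPrimeCore 2 K := QuotientGroup.eq.1 e
  have h6 : a⁻¹ * ⟨w, hK⟩ ∈ (P : Subgroup K) := mul_mem (inv_mem (mP (hsc.1 ha))) (mP hw)
  obtain ⟨k, hk⟩ := P.isPGroup'.exists_card_eq
  have h7 := disjoint_def.1 (disjoint_of_coprime_natCard
    (hk ▸ (Solv.coprime_card_pPrimeCore 2 K).pow_right k)) h5 h6
  rw [inv_mul_eq_one] at h7
  exact (show (a : G) = w from congrArg Subtype.val h7) ▸ ha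

variable {X : Type*} [Group X] [Finite X] {φ : TG →* X}

/-- `m` maps the `i`-th singular point to the `j`-th. -/
def PMs (φ : TG →* X) (m : X) (i j : Fin 5) : Prop :=
  m * φ (sv i) * m⁻¹ = φ (sv j) ∨ m * φ (sv i) * m⁻¹ = φ (sv j * tz)

namespace Emb

variable (E : Emb φ)
include E

theorem pms_uniq {m : X} {i j k : Fin 5} (h1 : PMs φ m i j) (h2 : PMs φ m i k) : j = k := by
  refine sv_uniq j k ?_
  rcases h1 with h1 | h1 <;> rcases h2 with h2 | h2 <;> have := E.eq.1 (h1.symm.trans h2)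
  · exact .inl this
  · exact .inr this
  · exact .inr (by rw [← this, mul_assoc, zz, mul_one])
  · exact .inl (mul_right_cancel this)

theorem pms_in {k : TG} {i j : Fin 5} (h : k * sv i * k⁻¹ = sv j ∨ k * sv i * k⁻¹ = sv j * tz) : PMs φ (φ k) i j :=
  h.imp (fun h => by rw [E.tr_in, h]) fun h => by rw [E.tr_in, h]

theorem T_norm (k : TG) : φ k ∈ N[TQ.map φ] := mem_norm_of_cj_le (by
  rintro - ⟨-, ⟨a, ha, rfl⟩, rfl⟩
  exact ⟨_, Q_conj k a ha, (E.tr_in k a).symm⟩)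

variable (hz : ∀ g : X, g * φ tz * g⁻¹ = φ tz)
include hz

theorem exists_pi : ∃ π : N[TQ.map φ] →* Perm (Fin 5), ∀ (m : N[TQ.map φ]) i, PMs φ m i (π m i) := by
  have ex : ∀ (m : N[TQ.map φ]) i, ∃ j, PMs φ m i j := fun m i => by
    obtain ⟨h1, h2, h3, h4⟩ := sv_facts i
    obtain ⟨q, hq, e⟩ := (mem_normalizer_iff.1 m.2 _).1 (mem_map_of_mem φ h1)
    replace e := e.symm
    obtain ⟨j, hj⟩ := sv_inv q hq ((E.tr_sq e).2 h2) (mt (E.tr_eq1 e).1 h3) (mt (E.tr_eq e (hz m)).1 h4)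
    exact ⟨j, hj.imp (fun h => e.trans (congrArg φ h)) fun h => e.trans (congrArg φ h)⟩
  choose F hF using ex
  let f : N[TQ.map φ] →* Function.End (Fin 5) :=
    { toFun := F
      map_one' := funext fun i => E.pms_uniq (hF 1 i) (.inl (by simp; rfl))
      map_mul' := fun a b => funext fun i => E.pms_uniq (hF (a * b) i) (by
        change PMs φ ((a : X) * b) i (F a (F b i))
        rcases hF b i with e | e <;> rcases hF a (F b i) with e' | e'
        · exact .inl (E.tr_comp e e')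
        · exact .inr (E.tr_comp e e')
        · exact .inr (E.tr_comp e (E.tr_mul e' (hz a)))
        · refine .inl (E.tr_comp e ?_)
          have := E.tr_mul e' (hz a)
          rwa [mul_assoc _ tz, zz, mul_one] at this) }
  exact ⟨f.toHomPerm, hF⟩

theorem cent_of_fix {m : X} (h : ∀ i, PMs φ m i i) : ∃ q ∈ TQ, (φ q)⁻¹ * m ∈ C[TQ.map φ] := by
  have h1 : ∀ i, ∃ a ∈ [sv i, sv i * tz], m * φ (sv i) * m⁻¹ = φ a := fun i => by
    rcases h i with h | h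
    · exact ⟨_, by simp, h⟩
    · exact ⟨_, by simp, h⟩
  obtain ⟨a, ha, ea⟩ := h1 0
  obtain ⟨b, hb, eb⟩ := h1 1
  obtain ⟨c, hc, ec⟩ := h1 2
  obtain ⟨d, hd, ed⟩ := h1 3
  obtain ⟨q, hq, q0, q1, q2, q3⟩ := sv_fix a ha b hb c hc d hd
  refine ⟨q, hq, ?_⟩
  have key : ∀ {u v : TG}, m * φ u * m⁻¹ = φ v → q * u * q⁻¹ = v → ∀ w ∈ [1, u],
      (φ q)⁻¹ * m * φ w * ((φ q)⁻¹ * m)⁻¹ = φ w := fun {u v} e1 e2 w hw => by
    simp only [List.mem_cons, List.not_mem_nil, or_false] at hw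
    rcases hw with rfl | rfl
    · exact E.tr_one _
    · exact E.tr_comp e1 (E.tr_inv (e2 ▸ E.tr_in q w))
  rintro - ⟨r, hr, rfl⟩
  obtain ⟨a', ha', b', hb', c', hc', d', hd', e', he', rfl⟩ := sv_gen r hr
  have := E.tr_mul (E.tr_mul (E.tr_mul (E.tr_mul (key ea q0 _ ha') (key eb q1 _ hb')) (key ec q2 _ hc'))
    (key ed q3 _ hd')) (key (hz m) ((zc q).mul_inv_cancel) _ he')
  exact (mul_inv_eq_iff_eq_mul.1 this).symm

variable (hO : pPrimeCore 2 X = ⊥)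
include hO

theorem le_z (Y : Subgroup X) [Y.Normal] (h : ∀ c : TG, φ c ∈ Y → c = 1 ∨ c = tz) {y : X} (hy : y ∈ Y) :
    y = 1 ∨ y = φ tz := by
  have := Nat.fact_prime_two
  have h1 : ∀ y ∈ Y ⊓ φ.range, y = 1 ∨ y = φ tz := fun y hy => by
    obtain ⟨h2, c, rfl⟩ := mem_inf.1 hy
    exact (h c h2).imp (fun e => by rw [e, map_one]) fun e => by rw [e]
  have h2 := Burnside_normal_complement (Sylow_setI_normal (normal_top Y) E.syl) fun g _ y hy => by
    rcases h1 y hy with rfl | rfl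
    · simp
    · exact (mul_inv_eq_iff_eq_mul.1 (hz g)).symm
  have h3 : Op' 2 Y = ⊥ := le_bot_iff.1 (hO ▸ Op'_top (G := X) 2 ▸ pcoreS_normal _ (normal_top Y))
  have h4 := h2.sup
  rw [h3, bot_sup_eq] at h4
  exact h1 y (h4.ge hy)

theorem normal : (TQ.map φ).Normal := by
  have := Nat.fact_prime_two
  have zV := t_facts.2.2.2.2.2.2.2.2.2.2
  have zQ := V_le_Q zV
  have z2 : φ tz * φ tz = 1 := by rw [← map_mul, zz, map_one]
  have mz : ∀ {y : X}, y ∈ zpowers (φ tz) → y = 1 ∨ y = φ tz := fun hy =>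
    (LES.mem_zp (Invol.orderOf_two_iff.2 ⟨z2, mt E.eq1.1 z1⟩)).1 hy
  have hZ : (zpowers (φ tz)).Normal := ⟨fun n hn g => by
    rcases mz hn with rfl | rfl
    · simp
    · rw [hz]; exact mem_zpowers _⟩
  set Q := TQ.map φ with hQ
  let ρ := QuotientGroup.mk' (zpowers (φ tz))
  have hρ : Function.Surjective ρ := QuotientGroup.mk'_surjective _
  have kρ : ρ.ker = zpowers (φ tz) := QuotientGroup.ker_mk' _
  have ρz : ρ (φ tz) = 1 := (QuotientGroup.eq_one_iff _).2 (mem_zpowers _)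
  have ρe : ∀ {a b : X}, ρ a = ρ b → a = b ∨ a = b * φ tz := fun {a b} h => by
    rcases mz (QuotientGroup.eq.1 h.symm) with h | h
    · exact .inl (inv_mul_eq_one.1 h).symm
    · exact .inr (inv_mul_eq_iff_eq_mul.1 h)
  have cQ : ∀ {a : X}, ρ a ∈ Q.map ρ ↔ a ∈ Q := fun {a} => by
    rw [← mem_comap, comap_map_eq_self (kρ.le.trans (zpowers_le.2 (mem_map_of_mem φ zQ)))]
  obtain ⟨S₀, hS₀⟩ := sylow_of_sylowIn_top E.syl
  let S := S₀.mapSurjective hρ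
  have hS : (S : Subgroup _) = φ.range.map ρ := by rw [← hS₀]; exact Sylow.coe_mapSurjective hρ S₀
  have sq : ∀ a ∈ Q.map ρ, a ^ 2 = 1 := by
    rintro - ⟨-, ⟨q, hq, rfl⟩, rfl⟩
    rw [← map_pow, ← map_pow, pow_two]
    rcases Q_sq q hq with h | h <;> rw [h]
    · simp
    · exact ρz
  have cm : IsMulCommutative (Q.map ρ) := ⟨⟨by
    rintro ⟨-, -, ⟨a, ha, rfl⟩, rfl⟩ ⟨-, -, ⟨b, hb, rfl⟩, rfl⟩
    refine Subtype.ext ?_
    show ρ (φ a) * ρ (φ b) = ρ (φ b) * ρ (φ a)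
    rw [← mul_inv_eq_iff_eq_mul, ← map_inv, ← map_mul, ← map_mul, E.tr_in]
    rcases Q_comm a ha b hb with h | h <;> rw [h]
    rw [map_mul, map_mul, ρz, mul_one]⟩⟩
  have sc : IsStronglyClosed (Q.map ρ) S := by
    refine ⟨hS ▸ map_mono (map_le_range φ TQ), ?_⟩
    rintro - ⟨-, ⟨q, hq, rfl⟩, rfl⟩ g hg
    obtain ⟨g, rfl⟩ := hρ g
    rw [← map_inv, ← map_mul, ← map_mul] at hg ⊢
    rw [hS] at hg
    obtain ⟨-, ⟨c, rfl⟩, e⟩ := hg
    obtain ⟨c', e⟩ : ∃ c', g * φ q * g⁻¹ = φ c' := by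
      rcases ρe e.symm with h | h
      · exact ⟨c, h⟩
      · exact ⟨c * tz, by rw [h, map_mul]⟩
    rw [cQ, e, E.mem_map]
    by_contra hc
    have c2 := out_sq c' hc ((Q_sq q hq).imp (E.tr_sq e).2 (E.tr_eq (E.tr_mul e e) (hz g)).2)
    exact E.not_fused hz c2 hc hq (E.tr_inv e)
  set K := normalClosure ((Q.map ρ : Subgroup _) : Set (X ⧸ zpowers (φ tz)))
  have hQK : Q.map ρ ≤ K := le_normalClosure
  have hKS : K ⊓ S = Q.map ρ := le_antisymm (fun a ha => by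
    obtain ⟨h1, h2⟩ := mem_inf.1 ha
    rw [hS] at h2
    obtain ⟨-, ⟨c, rfl⟩, rfl⟩ := h2
    rw [cQ, E.mem_map]
    by_contra hc
    obtain ⟨q, hq, h⟩ := coset_inv c hc
    have := gold_omega S _ cm sc sq (w := ρ (φ (c * q))) (hS ▸ ⟨_, ⟨_, rfl⟩, rfl⟩)
      (by rw [map_mul, map_mul]; exact mul_mem h1 (hQK (cQ.2 (mem_map_of_mem φ hq))))
      (by rw [← map_pow, ← map_pow, pow_two, h]; simp)
    rw [cQ, E.mem_map] at this
    exact hc ((mul_mem_cancel_right hq).1 this)) (le_inf hQK sc.1)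
  have hSyl : SylowIn 2 (Q.map ρ) K := hKS ▸ Sylow_setI_normal (normal_top K) (sylowIn_top S)
  obtain ⟨π, hπ⟩ := E.exists_pi hz
  have πQ : ∀ m : N[Q], (m : X) ∈ Q → π m = 1 := by
    rintro ⟨-, hm⟩ ⟨q, hq, rfl⟩
    exact Equiv.ext fun i => E.pms_uniq (hπ ⟨_, hm⟩ i) (E.pms_in (Q_comm q hq _ (sv_facts i).1))
  let D : Subgroup N[Q] := K.comap (ρ.comp (Subgroup.subtype _))
  have hD : ∀ m ∈ D, π m = 1 := fun m hm => by
    have cj' : ∀ (k : TG) (τ : Perm (Fin 5)), (∀ i, PMs φ (φ k) i (τ i)) → ∀ σ ∈ D.map π, τ * σ * τ⁻¹ ∈ D.map π := by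
      rintro k τ hk - ⟨d, hd, rfl⟩
      have : π ⟨φ k, E.T_norm k⟩ = τ := Equiv.ext fun i => E.pms_uniq (hπ _ i) (hk i)
      exact ⟨_, Normal.conj_mem inferInstance d hd ⟨φ k, E.T_norm k⟩, by rw [map_mul, map_mul, map_inv, this]⟩
    refine s5_odd (D.map π) (cj' tx px fun i => E.pms_in (sv_x i)) (cj' ty py fun i => E.pms_in (sv_y i)) ?_
      (mem_map_of_mem π hm)
    rintro - ⟨d, hd, rfl⟩ h2
    obtain ⟨a, n, hn, e⟩ := Nat.exists_eq_pow_mul_and_not_dvd (orderOf_pos d).ne' 2 (by norm_num)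
    have h3 : (d ^ n) ^ 2 ^ a = 1 := by rw [← pow_mul, mul_comm, ← e, pow_orderOf_eq_one]
    have h4 : π (d ^ n) = 1 := by
      refine πQ _ (cQ.1 ?_)
      refine zpowers_le.1 (sub_Hall_of_norm hSyl (zpowers_le.2 (pow_mem hd n :)) (IsPGroup.pi ?_) (.inl ?_))
      · refine IsPGroup.of_card_dvd_pow (n := a) ?_
        rw [Nat.card_zpowers]
        refine orderOf_dvd_of_pow_eq_one ?_
        rw [← map_pow, ← coe_pow, h3, coe_one, map_one]
      · exact zpowers_le.2 (le_normalizer_map ρ (mem_map_of_mem ρ (d ^ n).2))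
    obtain ⟨l, rfl⟩ := Nat.not_even_iff_odd.1 (mt even_iff_two_dvd.1 hn)
    rwa [map_pow, pow_succ, pow_mul, pow_two, h2, one_pow, one_mul] at h4
  have hB := Burnside_normal_complement hSyl fun n hn => by
    obtain ⟨n, rfl⟩ := hρ n
    obtain ⟨h1, h2⟩ := mem_inf.1 hn
    have h3 : n ∈ N[Q] := mem_norm_of_cj_le (by
      rintro - ⟨q, hq, rfl⟩
      refine cQ.1 ?_
      have := (mem_normalizer_iff.1 h2 _).1 (cQ.2 hq)
      rwa [← map_inv, ← map_mul, ← map_mul] at this)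
    obtain ⟨q, hq, h4⟩ := E.cent_of_fix hz (m := n) fun i => by
      have := hπ ⟨n, h3⟩ i
      rwa [hD ⟨n, h3⟩ h1] at this
    rw [show n = φ q * ((φ q)⁻¹ * n) by simp, map_mul]
    refine mul_mem (le_centralizer _ (cQ.2 (mem_map_of_mem φ hq))) ?_
    rintro - ⟨r, hr, rfl⟩
    rw [← map_mul, ← map_mul, h4 r hr]
  have hO' : pPrimeCore 2 (X ⧸ zpowers (φ tz)) = ⊥ := eq_bot_iff.2 fun y hy => by
    obtain ⟨y, rfl⟩ := hρ y
    refine (E.le_z hz hO ((pPrimeCore 2 _).comap ρ) (fun c hc => ?_) hy).elim (fun e => by simp [e])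
      fun e => e ▸ ρz
    have h1 : orderOf (ρ (φ c)) ∣ 2 ^ 7 := ((orderOf_map_dvd ρ _).trans (orderOf_map_dvd φ c)).trans
      (by rw [show 2 ^ 7 = Nat.card TG from card_TG.symm]; exact orderOf_dvd_natCard c)
    have h2 := Nat.eq_one_of_dvd_coprimes ((Solv.coprime_card_pPrimeCore 2 _).pow_right 7)
      (Subgroup.orderOf_dvd_natCard _ hc) h1
    rcases ρe ((orderOf_eq_one_iff.1 h2).trans (map_one ρ).symm) with h | h
    · exact .inl (E.eq1.1 h)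
    · exact .inr (E.eq.1 (by rw [h, one_mul]))
  have h3 : Op' 2 K = ⊥ := le_bot_iff.1 (hO' ▸ Op'_top (G := X ⧸ zpowers (φ tz)) 2 ▸ pcoreS_normal _ (normal_top K))
  have h4 := hB.sup
  rw [h3, bot_sup_eq] at h4
  refine ⟨fun n hn g => cQ.1 ?_⟩
  rw [map_mul, map_mul, map_inv, h4]
  exact Normal.conj_mem inferInstance _ (hQK (cQ.2 hn)) _

theorem cent_Q {x : X} (hx : x ∈ C[TQ.map φ]) : x = 1 ∨ x = φ tz := by
  have := E.normal hz hO
  exact E.le_z hz hO _ (fun c hc => Q_cen c fun y hy => E.eq.1 (by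
    rw [map_mul, map_mul]; exact (hc _ (mem_map_of_mem φ hy)).symm)) hx

theorem card {h : X} (hh : h * φ tt * h⁻¹ = φ ts ∨ h * φ tt * h⁻¹ = φ (ts * tz)) : Nat.card X = 1920 := by
  have := E.normal hz hO
  have zQ := V_le_Q t_facts.2.2.2.2.2.2.2.2.2.2
  obtain ⟨π, hπ⟩ := E.exists_pi hz
  have hN : N[TQ.map φ] = ⊤ := normalizer_eq_top _
  have hk : π.ker = (TQ.map φ).subgroupOf _ := Subgroup.ext fun m => ⟨fun hm => by
    obtain ⟨q, hq, h4⟩ := E.cent_of_fix hz (m := m) fun i => by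
      have := hπ m i
      rwa [MonoidHom.mem_ker.1 hm] at this
    rw [mem_subgroupOf, show (m : X) = φ q * ((φ q)⁻¹ * m) by simp]
    refine mul_mem (mem_map_of_mem φ hq) ?_
    rcases E.cent_Q hz hO h4 with h | h <;> rw [h]
    · exact one_mem _
    · exact mem_map_of_mem φ zQ, fun hm => by
    obtain ⟨m, hm'⟩ := m
    obtain ⟨q, hq, rfl⟩ := hm
    exact Equiv.ext fun i => E.pms_uniq (hπ ⟨_, hm'⟩ i) (E.pms_in (Q_comm q hq _ (sv_facts i).1))⟩
  have c1 := π.ker.card_mul_index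
  rw [index_ker, hk, Nat.card_congr (subgroupOfEquivOfLe le_normalizer).toEquiv, E.card_map, card_Q,
    Nat.card_congr (MulEquiv.subgroupCongr hN).toEquiv, card_top] at c1
  have c2 := card_subgroup_dvd_card π.range
  rw [Nat.card_perm, Nat.card_fin] at c2
  have c3 := s5_15 π.range
    ⟨⟨φ tx, E.T_norm _⟩, Equiv.ext fun i => E.pms_uniq (hπ _ i) (E.pms_in (sv_x i))⟩
    ⟨⟨φ ty, E.T_norm _⟩, Equiv.ext fun i => E.pms_uniq (hπ _ i) (E.pms_in (sv_y i))⟩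
    ⟨⟨h, hN ▸ mem_top h⟩, rfl⟩ (E.pms_uniq (hπ ⟨h, hN ▸ mem_top h⟩ 3) hh)
  have c4 := φ.range.card_mul_index
  have c5 := E.odd
  rw [E.card_range] at c4
  obtain ⟨r, hr⟩ := c3
  rw [hr] at c1 c2
  replace c2 : 15 * r ∣ 120 := c2
  have c6 := Nat.le_of_dvd (by norm_num) c2
  have : r ≤ 8 := by omega
  interval_cases r <;> omega

open Cfsg.Agent.HJ Cfsg.Agent.HJ.F Cfsg.Agent.LES in
theorem loc {h : X} (hh : h * φ tt * h⁻¹ = φ ts ∨ h * φ tt * h⁻¹ = φ (ts * tz)) :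
    centralizer {φ tz} = ⊤ ∧ ∃ a x e s t, Loc a x e s (φ tz) t := by
  have := E.normal hz hO
  have zQ := V_le_Q t_facts.2.2.2.2.2.2.2.2.2.2
  have hc : centralizer {φ tz} = ⊤ := eq_top_iff.2 fun g _ => mem_cent1.2 (mul_inv_eq_iff_eq_mul.1 (hz g))
  have L : LE (TQ.map φ) (φ tz) := by
    have cQ : ∀ x, (∀ y ∈ TQ.map φ, Commute x y) → x = 1 ∨ x = φ tz := fun x hx =>
      E.cent_Q hz hO fun y hy => (hx y hy).symm
    refine ⟨⟨Invol.orderOf_two_iff.2 ⟨by rw [← map_mul, zz, map_one], mt E.eq1.1 z1⟩, mem_map_of_mem φ zQ,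
      fun y _ => mul_inv_eq_iff_eq_mul.1 (hz y), fun x _ => cQ x, ?_, ?_, ?_⟩, cQ,
      fun x _ => norm_of_normal _ ⊤ (mem_top x)⟩
    · rintro - ⟨a, ha, rfl⟩ - ⟨b, hb, rfl⟩
      rw [E.tr_in, ← map_mul, E.eq, E.eq]
      exact Q_comm a ha b hb
    · rintro - ⟨a, ha, rfl⟩
      rw [← map_mul, E.eq1, E.eq]
      exact Q_sq a ha
    · obtain ⟨a, ha, b, hb, h⟩ := Q_nab
      exact ⟨_, mem_map_of_mem φ ha, _, mem_map_of_mem φ hb, fun c => h (E.eq.1 (by rw [map_mul, map_mul]; exact c))⟩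
  refine ⟨hc, ?_⟩
  obtain ⟨a, x, e, s, t, M | M⟩ := struct L (by rw [E.card_map, card_Q]) (by rw [hc, card_top, E.card hz hO hh])
  · exact ⟨a, x, e, s, t, M⟩
  exfalso
  obtain ⟨f, R, C⟩ := T1.exists_reg (g := lets1 a x e s (φ tz) t)
    (fun i hi => by obtain ⟨k, rfl⟩ := Nat.exists_eq_add_of_le' hi; rfl) M.rels (by rw [M.cen, M.card])
  rw [M.cen, hc] at R
  have key : ∀ u ∈ (⊤ : Subgroup X), u * u = 1 → ∀ v ∈ (⊤ : Subgroup X), v * v = 1 →
      u * v * (u * v) * (u * v * (u * v)) = 1 :=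
    R.sound C (.all ((F.u * F.u ≐ 1) ⟹ .all ((F.u * F.u ≐ 1) ⟹
      (F.v * F.u * (F.v * F.u) * (F.v * F.u * (F.v * F.u)) ≐ 1)))) (by decide +kernel)
  have := key (φ tx) trivial (by rw [← map_mul, xt8.1, map_one]) (φ tt) trivial
    (by rw [← map_mul, xt8.2.1, map_one])
  simp only [← map_mul, E.eq1] at this
  exact xt8.2.2 this

end Emb

end Cfsg.Agent.HJS
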